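import Cfsg.Agent.HSModel.CovL7Data

/-!
The certificate is valid.
-/

set_option autoImplicit false

namespace Cfsg.Lib.HSModel.CovL7

open Cfsg.Lib.CosetCert

theorem steps0_ok : cert.stepsOK 0 steps0 = true ∧ ruleBound spec.length steps0 = true := by decide +kernel

theorem steps1_ok : cert.stepsOK 256 steps1 = true ∧ ruleBound spec.length steps1 = true := by decide +kernel

theorem steps2_ok : cert.stepsOK 512 steps2 = true ∧ ruleBound spec.length steps2 = true := by decide +kernel

theorem steps3_ok : cert.stepsOK 768 steps3 = true ∧ ruleBound spec.length steps3 = true := by decide +kernel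

theorem steps4_ok : cert.stepsOK 1024 steps4 = true ∧ ruleBound spec.length steps4 = true := by decide +kernel

theorem steps5_ok : cert.stepsOK 1280 steps5 = true ∧ ruleBound spec.length steps5 = true := by decide +kernel

theorem steps6_ok : cert.stepsOK 1536 steps6 = true ∧ ruleBound spec.length steps6 = true := by decide +kernel

theorem steps7_ok : cert.stepsOK 1792 steps7 = true ∧ ruleBound spec.length steps7 = true := by decide +kernel

theorem steps8_ok : cert.stepsOK 2048 steps8 = true ∧ ruleBound spec.length steps8 = true := by decide +kernel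

theorem steps9_ok : cert.stepsOK 2304 steps9 = true ∧ ruleBound spec.length steps9 = true := by decide +kernel

theorem steps10_ok : cert.stepsOK 2560 steps10 = true ∧ ruleBound spec.length steps10 = true := by decide +kernel

theorem steps11_ok : cert.stepsOK 2816 steps11 = true ∧ ruleBound spec.length steps11 = true := by decide +kernel

theorem steps12_ok : cert.stepsOK 3072 steps12 = true ∧ ruleBound spec.length steps12 = true := by decide +kernel

theorem steps13_ok : cert.stepsOK 3328 steps13 = true ∧ ruleBound spec.length steps13 = true := by decide +kernel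

theorem steps14_ok : cert.stepsOK 3584 steps14 = true ∧ ruleBound spec.length steps14 = true := by decide +kernel

theorem steps15_ok : cert.stepsOK 3840 steps15 = true ∧ ruleBound spec.length steps15 = true := by decide +kernel

theorem steps16_ok : cert.stepsOK 4096 steps16 = true ∧ ruleBound spec.length steps16 = true := by decide +kernel

theorem steps17_ok : cert.stepsOK 4352 steps17 = true ∧ ruleBound spec.length steps17 = true := by decide +kernel

theorem steps18_ok : cert.stepsOK 4608 steps18 = true ∧ ruleBound spec.length steps18 = true := by decide +kernel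

theorem steps19_ok : cert.stepsOK 4864 steps19 = true ∧ ruleBound spec.length steps19 = true := by decide +kernel

theorem steps20_ok : cert.stepsOK 5120 steps20 = true ∧ ruleBound spec.length steps20 = true := by decide +kernel

theorem steps21_ok : cert.stepsOK 5376 steps21 = true ∧ ruleBound spec.length steps21 = true := by decide +kernel

def cat0_0 : List (ℕ × ℕ) := steps0 ++ steps1

theorem cat0_0_ok : cert.stepsOK 0 cat0_0 = true ∧ ruleBound spec.length cat0_0 = true :=
  stepsOK_cat steps0_ok steps1_ok (by decide +kernel)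

def cat0_1 : List (ℕ × ℕ) := steps2 ++ steps3

theorem cat0_1_ok : cert.stepsOK 512 cat0_1 = true ∧ ruleBound spec.length cat0_1 = true :=
  stepsOK_cat steps2_ok steps3_ok (by decide +kernel)

def cat0_2 : List (ℕ × ℕ) := steps4 ++ steps5

theorem cat0_2_ok : cert.stepsOK 1024 cat0_2 = true ∧ ruleBound spec.length cat0_2 = true :=
  stepsOK_cat steps4_ok steps5_ok (by decide +kernel)

def cat0_3 : List (ℕ × ℕ) := steps6 ++ steps7

theorem cat0_3_ok : cert.stepsOK 1536 cat0_3 = true ∧ ruleBound spec.length cat0_3 = true :=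
  stepsOK_cat steps6_ok steps7_ok (by decide +kernel)

def cat0_4 : List (ℕ × ℕ) := steps8 ++ steps9

theorem cat0_4_ok : cert.stepsOK 2048 cat0_4 = true ∧ ruleBound spec.length cat0_4 = true :=
  stepsOK_cat steps8_ok steps9_ok (by decide +kernel)

def cat0_5 : List (ℕ × ℕ) := steps10 ++ steps11

theorem cat0_5_ok : cert.stepsOK 2560 cat0_5 = true ∧ ruleBound spec.length cat0_5 = true :=
  stepsOK_cat steps10_ok steps11_ok (by decide +kernel)

def cat0_6 : List (ℕ × ℕ) := steps12 ++ steps13

theorem cat0_6_ok : cert.stepsOK 3072 cat0_6 = true ∧ ruleBound spec.length cat0_6 = true :=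
  stepsOK_cat steps12_ok steps13_ok (by decide +kernel)

def cat0_7 : List (ℕ × ℕ) := steps14 ++ steps15

theorem cat0_7_ok : cert.stepsOK 3584 cat0_7 = true ∧ ruleBound spec.length cat0_7 = true :=
  stepsOK_cat steps14_ok steps15_ok (by decide +kernel)

def cat0_8 : List (ℕ × ℕ) := steps16 ++ steps17

theorem cat0_8_ok : cert.stepsOK 4096 cat0_8 = true ∧ ruleBound spec.length cat0_8 = true :=
  stepsOK_cat steps16_ok steps17_ok (by decide +kernel)

def cat0_9 : List (ℕ × ℕ) := steps18 ++ steps19

theorem cat0_9_ok : cert.stepsOK 4608 cat0_9 = true ∧ ruleBound spec.length cat0_9 = true :=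
  stepsOK_cat steps18_ok steps19_ok (by decide +kernel)

def cat0_10 : List (ℕ × ℕ) := steps20 ++ steps21

theorem cat0_10_ok : cert.stepsOK 5120 cat0_10 = true ∧ ruleBound spec.length cat0_10 = true :=
  stepsOK_cat steps20_ok steps21_ok (by decide +kernel)

def cat1_0 : List (ℕ × ℕ) := cat0_0 ++ cat0_1

theorem cat1_0_ok : cert.stepsOK 0 cat1_0 = true ∧ ruleBound spec.length cat1_0 = true :=
  stepsOK_cat cat0_0_ok cat0_1_ok (by decide +kernel)

def cat1_1 : List (ℕ × ℕ) := cat0_2 ++ cat0_3

theorem cat1_1_ok : cert.stepsOK 1024 cat1_1 = true ∧ ruleBound spec.length cat1_1 = true :=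
  stepsOK_cat cat0_2_ok cat0_3_ok (by decide +kernel)

def cat1_2 : List (ℕ × ℕ) := cat0_4 ++ cat0_5

theorem cat1_2_ok : cert.stepsOK 2048 cat1_2 = true ∧ ruleBound spec.length cat1_2 = true :=
  stepsOK_cat cat0_4_ok cat0_5_ok (by decide +kernel)

def cat1_3 : List (ℕ × ℕ) := cat0_6 ++ cat0_7

theorem cat1_3_ok : cert.stepsOK 3072 cat1_3 = true ∧ ruleBound spec.length cat1_3 = true :=
  stepsOK_cat cat0_6_ok cat0_7_ok (by decide +kernel)

def cat1_4 : List (ℕ × ℕ) := cat0_8 ++ cat0_9

theorem cat1_4_ok : cert.stepsOK 4096 cat1_4 = true ∧ ruleBound spec.length cat1_4 = true :=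
  stepsOK_cat cat0_8_ok cat0_9_ok (by decide +kernel)

def cat2_0 : List (ℕ × ℕ) := cat1_0 ++ cat1_1

theorem cat2_0_ok : cert.stepsOK 0 cat2_0 = true ∧ ruleBound spec.length cat2_0 = true :=
  stepsOK_cat cat1_0_ok cat1_1_ok (by decide +kernel)

def cat2_1 : List (ℕ × ℕ) := cat1_2 ++ cat1_3

theorem cat2_1_ok : cert.stepsOK 2048 cat2_1 = true ∧ ruleBound spec.length cat2_1 = true :=
  stepsOK_cat cat1_2_ok cat1_3_ok (by decide +kernel)

def cat2_2 : List (ℕ × ℕ) := cat1_4 ++ cat0_10

theorem cat2_2_ok : cert.stepsOK 4096 cat2_2 = true ∧ ruleBound spec.length cat2_2 = true :=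
  stepsOK_cat cat1_4_ok cat0_10_ok (by decide +kernel)

def cat3_0 : List (ℕ × ℕ) := cat2_0 ++ cat2_1

theorem cat3_0_ok : cert.stepsOK 0 cat3_0 = true ∧ ruleBound spec.length cat3_0 = true :=
  stepsOK_cat cat2_0_ok cat2_1_ok (by decide +kernel)

def cat4_0 : List (ℕ × ℕ) := cat3_0 ++ cat2_2

theorem cat4_0_ok : cert.stepsOK 0 cat4_0 = true ∧ ruleBound spec.length cat4_0 = true :=
  stepsOK_cat cat3_0_ok cat2_2_ok (by decide +kernel)

theorem spec_ok : cert.rotsOK rels spec = true := by decide +kernel

theorem tab_ok : cert.tabOK cat4_0.length = true := by decide +kernel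

theorem valid : cert.Valid rels :=
  ⟨by decide, spec, cat4_0, spec_ok, cat4_0_ok.1, cat4_0_ok.2, tab_ok⟩

theorem fins_length : cert.fin.length = 704 := by rw [Cert.fin, List.length_map, List.length_range]; rfl

end Cfsg.Lib.HSModel.CovL7
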