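import Cfsg.Agent.HSModel.Checks
import Cfsg.Agent.Leech.HSGraph
import Cfsg.Prelude.Def_Spor_Conway

/-!
The Higman-Sims group as the even automorphisms of the graph on 100 vertices.
-/

set_option autoImplicit false
set_option Elab.async false

namespace Cfsg.Lib.HSModel

open Cfsg Cfsg.Lib.CosetCert Cfsg.Lib.PermCert MulAction
open Cfsg.Lib.Leech Cfsg.Lib.Leech.HSGraph

/-- The family of hexads. -/
def blocks : Set (Finset (Fin 22)) := Set.range blockOf

theorem mem_blockOf (i : Fin 77) (a : Fin 22) : a ∈ blockOf i ↔ hexBit i.val a.val = true := by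
  simp [blockOf]

theorem blockOf_inj : Function.Injective blockOf := by
  intro i j h
  by_contra hne
  have key : ∀ i j : Fin 77, j.val < i.val → blockOf i = blockOf j → False := fun i j hlt h => by
    have h1 := List.all_eq_true.1 (List.all_eq_true.1 block_distinct i.val (List.mem_range.2 i.isLt)) j.val
      (List.mem_range.2 hlt)
    obtain ⟨a, ha, hab⟩ := List.any_eq_true.1 h1
    rw [List.mem_range] at ha
    refine (bne_iff_ne.1 hab) (Bool.eq_iff_iff.2 ?_)
    rw [← mem_blockOf i ⟨a, ha⟩, ← mem_blockOf j ⟨a, ha⟩, h]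
  rcases lt_trichotomy i.val j.val with h1 | h1 | h1
  · exact key j i h1 h.symm
  · exact hne (Fin.ext h1)
  · exact key i j h1 h

theorem steiner : IsSteinerSystem 3 6 blocks := by
  refine ⟨fun b hb => ?_, fun s hs => ?_⟩
  · obtain ⟨i, rfl⟩ := hb
    exact block_card i
  obtain ⟨a, b, c, hab, hbc, rfl⟩ : ∃ a b c : Fin 22, a < b ∧ b < c ∧ s = {a, b, c} := by
    set f := s.orderEmbOfFin hs
    refine ⟨f 0, f 1, f 2, f.strictMono (by decide), f.strictMono (by decide), ?_⟩
    refine (Finset.eq_of_subset_of_card_le ?_ ?_).symm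
    · simp [Finset.insert_subset_iff, f, Finset.orderEmbOfFin_mem]
    · rw [hs, Finset.card_eq_three.2 ⟨f 0, f 1, f 2, ?_, ?_, ?_, rfl⟩] <;> exact f.injective.ne (by decide)
  have h := List.all_eq_true.1 (List.all_eq_true.1 (List.all_eq_true.1 triple_all c.val (List.mem_range.2 c.isLt))
    b.val (List.mem_range.2 hbc)) a.val (List.mem_range.2 hab)
  simp only [tripleOK, beq_iff_eq] at h
  obtain ⟨i, hi⟩ := List.length_eq_one_iff.1 h
  have him : i ∈ (List.range 77).filter fun i => hexBit i a.val && hexBit i b.val && hexBit i c.val := by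
    rw [hi]; exact List.mem_singleton_self i
  simp only [List.mem_filter, List.mem_range, Bool.and_eq_true] at him
  obtain ⟨hlt, ⟨ha, hb⟩, hc⟩ := him
  refine ⟨blockOf ⟨i, hlt⟩, ⟨⟨_, rfl⟩, ?_⟩, ?_⟩
  · simp [Finset.insert_subset_iff, mem_blockOf, ha, hb, hc]
  · rintro _ ⟨⟨j, rfl⟩, hj⟩
    simp only [Finset.insert_subset_iff, Finset.singleton_subset_iff, mem_blockOf] at hj
    have hjm : j.val ∈ (List.range 77).filter fun i => hexBit i a.val && hexBit i b.val && hexBit i c.val := by
      simp [List.mem_filter, hj.1, hj.2.1, hj.2.2]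
    rw [hi, List.mem_singleton] at hjm
    exact congrArg blockOf (Fin.ext hjm)

/-- The vertex of an index. -/
def vtx (x : Fin 100) : Option (Fin 22 ⊕ blocks) :=
  if h0 : x.val = 0 then none
  else if h : x.val ≤ 22 then some (Sum.inl ⟨x.val - 1, by omega⟩)
  else some (Sum.inr ⟨blockOf ⟨x.val - 23, by omega⟩, Set.mem_range_self _⟩)

theorem vtx_bijective : Function.Bijective vtx := by
  constructor
  · intro x y h
    unfold vtx at h
    split_ifs at h <;>
      simp only [Option.some.injEq, Sum.inl.injEq, Sum.inr.injEq, Subtype.mk.injEq, Fin.mk.injEq, reduceCtorEq] at h <;>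
      first
      | exact Fin.ext (by omega)
      | (have := congrArg Fin.val (blockOf_inj (congrArg Subtype.val h)); simp only at this; exact Fin.ext (by omega))
  · intro v
    rcases v with _ | a | ⟨b, i, rfl⟩
    · exact ⟨0, by simp [vtx]⟩
    · refine ⟨⟨a.val + 1, by omega⟩, ?_⟩
      rw [vtx, dif_neg (by simp), dif_pos (show a.val + 1 ≤ 22 by omega)]
      exact congrArg (fun z => some (Sum.inl z)) (Fin.ext (by simp))
    · refine ⟨⟨i.val + 23, by omega⟩, ?_⟩
      rw [vtx, dif_neg (by simp), dif_neg (show ¬ i.val + 23 ≤ 22 by omega)]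
      exact congrArg (fun z => some (Sum.inr z)) (Subtype.ext (congrArg blockOf (Fin.ext (by simp))))

/-- Indices and vertices. -/
noncomputable def vEquiv : Fin 100 ≃ Option (Fin 22 ⊕ blocks) := Equiv.ofBijective vtx vtx_bijective

theorem rel_iff (x y : Fin 100) : pointBlockRel blocks (vtx x) (vtx y) ↔ relB x.val y.val = true := by
  unfold vtx relB
  split_ifs <;>
    simp only [pointBlockRel, Bool.and_eq_true, Nat.ble_eq, List.all_eq_true, List.mem_range, mem_blockOf,
      Finset.disjoint_left]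
  all_goals first
    | exact iff_of_true trivial ⟨by omega, by omega⟩
    | exact iff_of_false id fun h => absurd h.1 (by omega)
    | exact iff_of_false id fun h => absurd h.2 (by omega)
    | exact ⟨fun h => ⟨by omega, h⟩, fun h => h.2⟩
    | (refine ⟨fun h => ⟨by omega, fun a ha => ?_⟩, fun h a ha => ?_⟩
       · have := h (a := ⟨a, ha⟩)
         cases hh : hexBit (x.val - 23) a <;> cases hh' : hexBit (y.val - 23) a <;> simp_all
       · have := h.2 a.val a.isLt
         simp_all)

theorem adj_iff (x y : Fin 100) : (pointBlockGraph blocks).Adj (vEquiv x) (vEquiv y) ↔ adjB x.val y.val = true := by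
  show (pointBlockGraph blocks).Adj (vtx x) (vtx y) ↔ _
  have h := List.all_eq_true.1 (List.all_eq_true.1 rows_ok x.val (List.mem_range.2 x.isLt)) y.val
    (List.mem_range.2 y.isLt)
  rw [beq_iff_eq.1 h, pointBlockGraph, SimpleGraph.fromRel_adj, rel_iff, rel_iff, Bool.and_eq_true,
    Bool.or_eq_true, bne_iff_ne, vtx_bijective.1.ne_iff, ne_eq, ne_eq, Fin.val_inj]

/-- Graph automorphisms as permutations of the indices. -/
noncomputable def toP : GraphAut blocks →* Equiv.Perm (Fin 100) :=
  MonoidHom.mk' (fun f => vEquiv.trans (f.toEquiv.trans vEquiv.symm)) fun f g => Equiv.ext fun x => by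
    show vEquiv.symm (f (g (vEquiv x))) = vEquiv.symm (f (vEquiv (vEquiv.symm (g (vEquiv x)))))
    rw [Equiv.apply_symm_apply]

theorem toP_apply (f : GraphAut blocks) (x : Fin 100) : vEquiv (toP f x) = f (vEquiv x) :=
  Equiv.apply_symm_apply _ _

theorem toP_injective : Function.Injective toP := fun f g h => RelIso.ext fun v => by
  obtain ⟨x, rfl⟩ := vEquiv.surjective v
  rw [← toP_apply, ← toP_apply, h]

theorem mem_range_toP {p : Equiv.Perm (Fin 100)}
    (h : ∀ x y : Fin 100, adjB (p x).val (p y).val = adjB x.val y.val) : p ∈ toP.range := by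
  let f : GraphAut blocks :=
    ⟨vEquiv.symm.trans (p.trans vEquiv), fun {v w} => by
      obtain ⟨x, rfl⟩ := vEquiv.surjective v
      obtain ⟨y, rfl⟩ := vEquiv.surjective w
      show (pointBlockGraph blocks).Adj (vEquiv (p (vEquiv.symm (vEquiv x))))
        (vEquiv (p (vEquiv.symm (vEquiv y)))) ↔ _
      rw [Equiv.symm_apply_apply, Equiv.symm_apply_apply, adj_iff, adj_iff, h]⟩
  refine ⟨f, Equiv.ext fun x => vEquiv.injective ?_⟩
  rw [toP_apply]
  show vEquiv (p (vEquiv.symm (vEquiv x))) = _
  rw [Equiv.symm_apply_apply]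

theorem tab_getD_valid {l : ℕ} (hl : l < 10) : valid 100 (xTabs.getD l (0, 0)) = true := by
  have h : l < xTabs.length := hl
  rw [List.getD_eq_getElem _ _ h]
  exact List.all_eq_true.1 tabs_valid _ (List.getElem_mem h)

theorem imH_mem {l : ℕ} (hl : l ∈ [0, 1, 2, 3, 9]) : imH l ∈ toP.range := by
  refine mem_range_toP fun x y => ?_
  have ht := List.all_eq_true.1 (List.all_eq_true.1 (List.all_eq_true.1 tabs_aut l hl) x.val (List.mem_range.2 x.isLt)) y.val
    (List.mem_range.2 y.isLt)
  have hl' : l < 10 := by fin_cases hl <;> norm_num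
  rw [imH, perm_apply (tab_getD_valid hl'), perm_apply (tab_getD_valid hl')]
  exact beq_iff_eq.1 ht

/-- The even automorphisms. -/
noncomputable def grp : Subgroup (Equiv.Perm (Fin 100)) := toP.range ⊓ (Equiv.Perm.sign).ker

theorem card_range : Nat.card toP.range = 88704000 := by
  rw [← Nat.card_congr (MonoidHom.ofInjective toP_injective).toEquiv]
  exact card_graphAut (Fintype.card_fin 22) steiner

theorem card_grp : Nat.card grp = 44352000 := by
  set s : toP.range →* ℤˣ := (Equiv.Perm.sign).comp toP.range.subtype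
  have hsurj : Function.Surjective s := fun z => by
    rcases Int.units_eq_one_or z with rfl | rfl
    · exact ⟨1, map_one _⟩
    · exact ⟨⟨imH 9, imH_mem (by simp)⟩, sign_tau⟩
  have e : Nat.card s.ker = Nat.card grp := by
    refine Nat.card_congr ⟨fun g => ⟨g.1.1, g.1.2, g.2⟩, fun g => ⟨⟨g.1, g.2.1⟩, g.2.2⟩, ?_, ?_⟩
    · intro g; rfl
    · intro g; rfl
  have h := Subgroup.card_mul_index s.ker
  rw [Subgroup.index_ker, MonoidHom.range_eq_top.2 hsurj, Subgroup.card_top, Nat.card_eq_fintype_card (α := ℤˣ),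
    Fintype.card_units_int, card_range, e] at h
  omega

local instance finiteCo0Inst3 : Finite Co0 := finite_co0

/-- The Higman-Sims group of the definitions is the pair stabiliser. -/
noncomputable def sporEquiv : ↥Cfsg.Spor.HS ≃* hsGrp := by
  have hsum : (Cfsg.Spor.leechU' : leechLattice) = baseV + baseW :=
    Subtype.ext (show Cfsg.Spor.vecU' = threeVec 5 1 1 + threeVec (-1) (-5) (-1) by decide)
  have hneg : (Cfsg.Spor.leechV : leechLattice) = -baseV :=
    Subtype.ext (show Cfsg.Spor.vecV = -threeVec 5 1 1 by decide)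
  have key : ∀ g : Co0, g ∈ hsGrp ↔ (g : Equiv.Perm leechLattice) ∈ Cfsg.Spor.HS := fun g => by
    let F : leechLattice →+ leechLattice := AddMonoidHom.mk' (fun v => (g : Equiv.Perm leechLattice) v) g.2.1
    show g ∈ stabilizer Co0 baseV ⊓ stabilizer Co0 baseW ↔ _
    rw [Cfsg.Spor.HS, Cfsg.Spor.Co3, Subgroup.mem_inf, Subgroup.mem_inf, Subgroup.mem_inf, mem_stabilizer_iff,
      mem_stabilizer_iff, mem_stabilizer_iff, mem_stabilizer_iff]
    show F baseV = baseV ∧ F baseW = baseW ↔
      ((g : Equiv.Perm leechLattice) ∈ Co0 ∧ F Cfsg.Spor.leechV = Cfsg.Spor.leechV) ∧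
        F Cfsg.Spor.leechU' = Cfsg.Spor.leechU'
    rw [hsum, hneg, map_neg, map_add, neg_inj]
    refine ⟨fun h => ⟨⟨g.2, h.1⟩, by rw [h.1, h.2]⟩, fun h => ⟨h.1.2, ?_⟩⟩
    have := h.2
    rw [h.1.2] at this
    exact add_left_cancel this
  exact
    { toFun := fun g => ⟨⟨g.1, (Subgroup.mem_inf.1 (Subgroup.mem_inf.1 g.2).1).1⟩, (key _).2 g.2⟩
      invFun := fun g => ⟨(g.1 : Equiv.Perm leechLattice), (key g.1).1 g.2⟩
      left_inv := fun _ => rfl
      right_inv := fun _ => rfl
      map_mul' := fun _ _ => rfl }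

theorem exists_equiv : Nonempty (↥Cfsg.Spor.HS ≃* ↥grp) := by
  obtain ⟨φ, hφ, -⟩ := exists_action (Fintype.card_fin 22) steiner
  set ψ : hsGrp →* Equiv.Perm (Fin 100) := toP.comp φ
  have hψ : Function.Injective ψ := toP_injective.comp hφ
  have hHS := hsGrp_isHS
  haveI : IsSimpleGroup hsGrp := hHS.1
  have hsgn : ∀ g, Equiv.Perm.sign (ψ g) = 1 := by
    rcases (inferInstance : ((Equiv.Perm.sign).comp ψ).ker.Normal).eq_bot_or_eq_top with h | h
    · exfalso
      have hle := Nat.card_le_card_of_injective _ ((MonoidHom.ker_eq_bot_iff _).1 h)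
      rw [hHS.2, Nat.card_eq_fintype_card, Fintype.card_units_int] at hle
      omega
    · intro g
      exact MonoidHom.mem_ker.1 (show g ∈ ((Equiv.Perm.sign).comp ψ).ker from h ▸ Subgroup.mem_top g)
  have hle : ψ.range ≤ grp := by
    rintro _ ⟨g, rfl⟩
    exact ⟨⟨φ g, rfl⟩, MonoidHom.mem_ker.2 (hsgn g)⟩
  haveI : Finite grp := Nat.finite_of_card_ne_zero (by rw [card_grp]; norm_num)
  have heq : ψ.range = grp := Subgroup.eq_of_le_of_card_ge hle (by
    rw [card_grp, ← Nat.card_congr (MonoidHom.ofInjective hψ).toEquiv, hHS.2])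
  exact ⟨(sporEquiv.trans (MonoidHom.ofInjective hψ)).trans (MulEquiv.subgroupCongr heq)⟩

end Cfsg.Lib.HSModel
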