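import Cfsg.Agent.HSModel.CovKernel
import Cfsg.Agent.HSModel.CovL2Check
import Cfsg.Agent.HSModel.CovL3Check
import Cfsg.Agent.HSModel.CovL4Check
import Cfsg.Agent.HSModel.CovL5Check
import Cfsg.Agent.HSModel.CovL6Check
import Cfsg.Agent.HSModel.CovL7Check
import Cfsg.Agent.HSModel.Model
import Cfsg.Agent.Schur.Criteria
import Cfsg.Agent.Schur.UniversalCover
import Cfsg.Prelude.Def_KGroupFacts

/-!
The multiplier of the Higman-Sims group has order two.
-/

set_option autoImplicit false
set_option maxHeartbeats 1000000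
set_option maxRecDepth 100000
set_option linter.style.haveILetI false

namespace Cfsg.Lib.HSModel.Cov

open Cfsg.Lib.PermCert Cfsg.Lib.CosetCert
open Cfsg.Lib.Leech Cfsg.Lib.Leech.HSGraph
open Cfsg.Lib.Schur.Prime (val)
open scoped commutatorElement

/-- The seven involutions. -/
def imC (l : ℕ) : Equiv.Perm (Fin 804) := perm 804 (covTabs.getD l (0, 0))

theorem covTabs_length : covTabs.length = 7 := chain_size.2.2

theorem tab804 {l : ℕ} (hl : l < 7) : valid 804 (covTabs.getD l (0, 0)) = true := by
  rw [List.getD_eq_getElem _ _ (covTabs_length.symm ▸ hl)]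
  exact List.all_eq_true.1 valid804 _ (List.getElem_mem _)

theorem tab100 {l : ℕ} (hl : l < 7) : valid 100 (covTabs.getD l (0, 0)) = true := by
  rw [List.getD_eq_getElem _ _ (covTabs_length.symm ▸ hl)]
  exact List.all_eq_true.1 valid100 _ (List.getElem_mem _)

theorem actC {l : ℕ} (hl : l < covTabs.length) : valid 804 (covTabs.getD l (0, 0)) = true ∧
    MonoidHom.id _ (imC l) = perm 804 (covTabs.getD l (0, 0)) :=
  ⟨tab804 (covTabs_length ▸ hl), rfl⟩

theorem relsHold_sound {k : ℕ} {R : List (List ℕ)} (hk : k ≤ 7) (h : relsHold k R = true) :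
    (∀ r ∈ R, wval imC r = 1) ∧ ∀ r ∈ R, ∀ l ∈ r, l < k := by
  simp only [relsHold, trivWord, List.all_eq_true, Bool.and_eq_true, decide_eq_true_eq] at h
  refine ⟨fun r hr => ?_, fun r hr => (h r hr).1⟩
  have hid := isId_sound (w := r.map fun l => covTabs.getD l (0, 0)) (fun g hg => by
    obtain ⟨l, hl, rfl⟩ := List.mem_map.1 hg
    exact tab804 ((h r hr).1 l hl |>.trans_le hk)) (h r hr).2.2
  rw [wperm, List.map_map] at hid
  exact hid

theorem imC_sq {l : ℕ} (hl : l < 7) : imC l * imC l = 1 := by
  have h := List.all_eq_true.1 covTabs_sq l (List.mem_range.2 hl)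
  have hw : wval imC [l, l] = 1 := (relsHold_sound (k := 7) (R := [[l, l]]) le_rfl (by
    simp [relsHold, h, hl])).1 _ List.mem_cons_self
  simpa [wval] using hw

/-- The subgroup on the first letters. -/
def step (k : ℕ) : Subgroup (Equiv.Perm (Fin 804)) := lgp imC (List.range k)

theorem pick_range {k l : ℕ} (h : l < k) : pickL (List.range k) l = l := by
  rw [pickL, List.getD_eq_getElem _ _ (by simpa using h), List.getElem_range]

theorem step_bound {C : CosetCert.Cert} {R : List (List ℕ)} {k N : ℕ} (hk : k ≤ 7) (hC : C.Valid R)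
    (hng : C.ng = k) (hR : relsHold k R = true) (hlen : C.fin.length = N)
    {K : Subgroup (Equiv.Perm (Fin 804))} (hsub : ∀ s ∈ C.subs, s < k ∧ imC s ∈ K) :
    Nat.card (step k) ≤ N * Nat.card K := by
  obtain ⟨h1, h2⟩ := relsHold_sound hk hR
  refine hlen ▸ (lgp_bound imC hC (List.range k) (by rw [hng, List.length_range]) (fun r hr => ?_)
    (List.all_eq_true.2 fun r hr => List.all_eq_true.2 fun l hl => by simpa using h2 r hr l hl)
    (fun l hl => imC_sq ((List.mem_range.1 hl).trans_le hk))
    (fun s hs => (pick_range (hsub s hs).1).symm ▸ (hsub s hs).2)).2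
  rw [List.map_congr_left (l := r) (f := pickL (List.range k)) (g := id) fun l hl => pick_range (h2 r hr l hl),
    List.map_id]
  exact h1 r hr

theorem step_sub {k s : ℕ} (h : s < k) : s < k + 1 ∧ imC s ∈ step k :=
  ⟨h.trans k.lt_succ_self, lgp_mem imC (List.mem_range.2 h)⟩

theorem card_step7 : Nat.card (step 7) ≤ 88704000 := by
  have e2 := step_bound (K := ⊥) (k := 2) (by norm_num) CovL2.valid rfl rels2 CovL2.fins_length
    (fun s hs => by simp [CovL2.cert] at hs)
  have e3 := step_bound (K := step 2) (k := 3) (by norm_num) CovL3.valid rfl rels3 CovL3.fins_length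
    (fun s hs => step_sub (by simp [CovL3.cert] at hs; omega))
  have e4 := step_bound (K := step 3) (k := 4) (by norm_num) CovL4.valid rfl rels4 CovL4.fins_length
    (fun s hs => step_sub (by simp [CovL4.cert] at hs; omega))
  have e5 := step_bound (K := step 4) (k := 5) (by norm_num) CovL5.valid rfl rels5 CovL5.fins_length
    (fun s hs => step_sub (by simp [CovL5.cert] at hs; omega))
  have e6 := step_bound (K := step 5) (k := 6) (by norm_num) CovL6.valid rfl rels6 CovL6.fins_length
    (fun s hs => step_sub (by simp [CovL6.cert] at hs; omega))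
  have e7 := step_bound (K := step 6) (k := 7) (by norm_num) CovL7.valid rfl rels7 CovL7.fins_length
    (fun s hs => step_sub (by simp [CovL7.cert] at hs; omega))
  rw [Subgroup.card_bot] at e2
  calc Nat.card (step 7) ≤ 704 * Nat.card (step 6) := e7
    _ ≤ 704 * (50 * (7 * (6 * (6 * (10 * 1))))) := by
      refine Nat.mul_le_mul le_rfl (e6.trans (Nat.mul_le_mul le_rfl (e5.trans (Nat.mul_le_mul le_rfl
        (e4.trans (Nat.mul_le_mul le_rfl (e3.trans (Nat.mul_le_mul le_rfl e2))))))))
    _ = 88704000 := by norm_num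

/-- The double cover. -/
abbrev Cover : Type := ↥(step 7)

/-- The letters in the double cover. -/
def imD (l : ℕ) : Cover := if h : l < 7 then ⟨imC l, lgp_mem imC (List.mem_range.2 h)⟩ else 1

theorem coe_imD {l : ℕ} (hl : l < 7) : ((imD l : Cover) : Equiv.Perm (Fin 804)) = imC l := by
  rw [imD, dif_pos hl]

theorem tabledD : Tabled imD (step 7).subtype covTabs where
  act := fun l hl => ⟨tab804 (covTabs_length ▸ hl), coe_imD (covTabs_length ▸ hl)⟩
  sq := fun l hl => by
    apply Subtype.ext
    rw [Subgroup.coe_mul, coe_imD (covTabs_length ▸ hl)]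
    exact imC_sq (covTabs_length ▸ hl)

theorem card_cover : Nat.card Cover = 88704000 := by
  refine le_antisymm card_step7 ?_
  have h := chain_bound imD (step 7).subtype covTabs tabledD.act (covChain.map SLev.lev) ⊤
    (covTabs_length.symm ▸ chain_ok) inferInstance (fun _ _ _ _ => Subgroup.mem_top _)
  rwa [chain_size.1, Subgroup.card_top] at h

theorem sameC_sound {w u : List ℕ} (h : sameC w u = true) : wval imD w = wval imD u := by
  simp only [sameC, Bool.and_eq_true, List.all_eq_true, decide_eq_true_eq, beq_iff_eq] at h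
  obtain ⟨⟨hw, hu⟩, he⟩ := h
  have hle : Nat.card (⊤ : Subgroup Cover) ≤ chainSize (covChain.map SLev.lev) := by
    rw [chain_size.1, Subgroup.card_top, card_cover]
  have key : ∀ v : List ℕ, (∀ l ∈ v, l < 7) → ∃ x, sift covTabs covChain
      (covChain.map fun S => evalW covTabs v S.lev.b) = some x ∧ wval imD x = wval imD v := fun v hv => by
    refine sift_complete tabledD covChain ⊤ inferInstance (covTabs_length.symm ▸ chain_ok) chain_idx
      (fun _ _ _ _ => Subgroup.mem_top _) hle _ (Subgroup.mem_top _) _ ?_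
    rw [List.forall₂_map_right_iff, List.forall₂_same]
    intro S _ p hp
    rw [evalW_apply imD (step 7).subtype covTabs tabledD.act v (fun l hl => covTabs_length.symm ▸ hv l hl) p, hp]
  obtain ⟨x, hx, ex⟩ := key w hw
  obtain ⟨y, hy, ey⟩ := key u hu
  rw [List.map_congr_left he, hy, Option.some.injEq] at hx
  rw [← ex, ← ey, hx]

/-- The first hundred points. -/
def emb (x : Fin 100) : Fin 804 := Fin.castLE (show 100 ≤ 804 by norm_num) x

theorem emb_inj : Function.Injective emb := fun _ _ h => Fin.ext (congrArg Fin.val h :)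

/-- The permutations preserving the first hundred points. -/
def Rest : Subgroup (Equiv.Perm (Fin 804)) where
  carrier := {g | ∃ q : Equiv.Perm (Fin 100), ∀ x, g (emb x) = emb (q x)}
  one_mem' := ⟨1, fun _ => rfl⟩
  mul_mem' := by
    rintro g h ⟨q, hq⟩ ⟨r, hr⟩
    exact ⟨q * r, fun x => by rw [Equiv.Perm.mul_apply, hr, hq, Equiv.Perm.mul_apply]⟩
  inv_mem' := by
    rintro g ⟨q, hq⟩
    refine ⟨q⁻¹, fun x => g.injective ?_⟩
    rw [hq, Equiv.Perm.coe_inv, Equiv.Perm.coe_inv, Equiv.apply_symm_apply, Equiv.apply_symm_apply]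

/-- The seven letters on 100 points. -/
def im100 (l : ℕ) : Equiv.Perm (Fin 100) := perm 100 (covTabs.getD l (0, 0))

theorem imC_emb {l : ℕ} (hl : l < 7) (x : Fin 100) : imC l (emb x) = emb (im100 l x) := by
  apply Fin.ext
  rw [imC, perm_apply (tab804 hl)]
  show _ = ((im100 l x : Fin 100) : ℕ)
  rw [im100, perm_apply (tab100 hl)]
  rfl

theorem step7_le : step 7 ≤ Rest := by
  rw [step, lgp, Subgroup.closure_le]
  rintro _ ⟨l, hl, rfl⟩
  exact ⟨im100 l, imC_emb (List.mem_range.1 hl)⟩

/-- The action on 100 points. -/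
noncomputable def proj : Cover →* Equiv.Perm (Fin 100) :=
  MonoidHom.mk' (fun g => (step7_le g.2).choose) fun g h => Equiv.ext fun x => emb_inj (by
    rw [← (step7_le (g * h).2).choose_spec x, Subgroup.coe_mul, Equiv.Perm.mul_apply,
      (step7_le h.2).choose_spec x, (step7_le g.2).choose_spec, Equiv.Perm.mul_apply])

theorem proj_spec (g : Cover) (x : Fin 100) : (g : Equiv.Perm (Fin 804)) (emb x) = emb (proj g x) :=
  (step7_le g.2).choose_spec x

theorem proj_imD {l : ℕ} (hl : l < 7) : proj (imD l) = im100 l :=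
  Equiv.ext fun x => emb_inj (by rw [← proj_spec, coe_imD hl, imC_emb hl])

theorem top_eq {P : Subgroup Cover} (h : ∀ l < 7, imD l ∈ P) : P = ⊤ := by
  have hle : step 7 ≤ P.map (step 7).subtype := by
    refine (Subgroup.closure_le _).2 ?_
    rintro _ ⟨l, hl, rfl⟩
    exact ⟨imD l, h l (List.mem_range.1 hl), coe_imD (List.mem_range.1 hl)⟩
  refine eq_top_iff.2 fun g _ => ?_
  obtain ⟨g', hg', e⟩ := hle g.2
  exact Subtype.ext e ▸ hg'

theorem act100 : ∀ l < covTabs.length, valid 100 (covTabs.getD l (0, 0)) = true ∧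
    proj (imD l) = perm 100 (covTabs.getD l (0, 0)) :=
  fun _ hl => ⟨tab100 (covTabs_length ▸ hl), proj_imD (covTabs_length ▸ hl)⟩

theorem im100_mem {l : ℕ} (hl : l < 7) : im100 l ∈ HSModel.grp := by
  refine ⟨mem_range_toP fun x y => ?_, MonoidHom.mem_ker.2 (sign100 ⟨l, hl⟩)⟩
  have ha : autOK l = true := by
    rcases (by omega : l < 4 ∨ 4 ≤ l) with h | h
    · exact List.all_eq_true.1 aut_low l (by interval_cases l <;> simp)
    · exact List.all_eq_true.1 aut_high l (by interval_cases l <;> simp)
  have ht := List.all_eq_true.1 (List.all_eq_true.1 ha x.val (List.mem_range.2 x.isLt)) y.val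
    (List.mem_range.2 y.isLt)
  rw [im100, perm_apply (tab100 hl), perm_apply (tab100 hl)]
  exact beq_iff_eq.1 ht

theorem proj_range : proj.range = HSModel.grp := by
  have hle : proj.range ≤ HSModel.grp := by
    rintro _ ⟨g, rfl⟩
    have h := top_eq (P := HSModel.grp.comap proj) fun l hl => by
      rw [Subgroup.mem_comap, proj_imD hl]
      exact im100_mem hl
    exact (h ▸ Subgroup.mem_top g : g ∈ HSModel.grp.comap proj)
  haveI : Finite HSModel.grp := Nat.finite_of_card_ne_zero (by rw [card_grp]; norm_num)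
  refine Subgroup.eq_of_le_of_card_ge hle ?_
  have h := chain_bound (fun l => proj (imD l)) (MonoidHom.id _) covTabs act100
    ((covChain.take 6).map SLev.lev) proj.range (covTabs_length.symm ▸ chain100_ok) inferInstance
    (fun _ _ w _ => ⟨wval imD w, map_wval imD proj w⟩)
  rwa [chain_size.2.1, ← card_grp] at h

/-- The central involution. -/
def zD : Cover := wval imD zWord

theorem zD_ne : zD ≠ 1 := by
  intro h
  refine z_facts.1 ?_
  have hlet : ∀ l ∈ zWord, l < 7 := by
    have := z_trivial
    simp only [trivWord, Bool.and_eq_true, List.all_eq_true, decide_eq_true_eq] at this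
    exact fun l hl => covTabs_length ▸ this.1 l hl
  have e := evalW_apply imD (step 7).subtype covTabs tabledD.act zWord
    (fun l hl => covTabs_length.symm ▸ hlet l hl) ⟨100, by norm_num⟩
  rw [show wval imD zWord = zD from rfl, h, map_one, inv_one] at e
  exact e.symm

theorem zD_ker : zD ∈ proj.ker := by
  have h := z_trivial
  simp only [trivWord, Bool.and_eq_true, List.all_eq_true, decide_eq_true_eq] at h
  have hid := isId_sound (w := zWord.map fun l => covTabs.getD l (0, 0)) (fun g hg => by
    obtain ⟨l, hl, rfl⟩ := List.mem_map.1 hg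
    exact (act100 l (h.1 l hl)).1) h.2
  rw [wperm, List.map_map] at hid
  rw [MonoidHom.mem_ker, zD, map_wval, wval, ← hid]
  exact congrArg List.prod (List.map_congr_left fun l hl => (act100 l (h.1 l hl)).2)

theorem card_ker : Nat.card proj.ker = 2 := by
  have h := Subgroup.card_mul_index proj.ker
  rw [Subgroup.index_ker, proj_range, card_grp, card_cover] at h
  exact Nat.eq_of_mul_eq_mul_right (show 0 < 44352000 by norm_num) (h.trans (show (88704000 : ℕ) = 2 * 44352000 by norm_num))

theorem ker_mem {g : Cover} (hg : g ∈ proj.ker) : g = 1 ∨ g = zD := by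
  have hfin : (proj.ker : Set Cover).Finite := Set.toFinite _
  have e : ({1, zD} : Set Cover) = proj.ker := by
    refine Set.eq_of_subset_of_ncard_le ?_ ?_ hfin
    · rintro x (rfl | rfl)
      exacts [one_mem _, zD_ker]
    · rw [Set.ncard_pair zD_ne.symm, ← Nat.card_coe_set_eq]
      exact le_of_eq card_ker
  have : g ∈ ({1, zD} : Set Cover) := e ▸ hg
  simpa using this

theorem zD_central : zD ∈ Subgroup.center Cover := by
  rw [Subgroup.mem_center_iff]
  have h := top_eq (P := Subgroup.centralizer {zD}) fun l hl => by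
    rw [Subgroup.mem_centralizer_singleton_iff]
    have e := sameC_sound (List.all_eq_true.1 z_facts.2.1 l (List.mem_range.2 hl))
    simp only [wval, List.map_append, List.prod_append, List.map_cons, List.map_nil, List.prod_cons,
      List.prod_nil, mul_one] at e
    exact e.symm
  intro g
  exact Subgroup.mem_centralizer_singleton_iff.1 (h.symm ▸ Subgroup.mem_top g)

theorem zD_comm : zD ∈ commutator Cover := by
  have hrev : ∀ w : List ℕ, (∀ l ∈ w, l < 7) → wval imD w.reverse = (wval imD w)⁻¹ := fun w hw =>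
    wval_reverse imD fun l hl => tabledD.sq l (covTabs_length.symm ▸ hw l hl)
  have h := sameC_sound z_facts.2.2.1
  have hl := z_facts.2.2.1
  simp only [sameC, Bool.and_eq_true, List.all_eq_true, decide_eq_true_eq, List.mem_append] at hl
  have e : ⁅wval imD comA, wval imD comB⁆ = zD := by
    rw [commutatorElement_def, zD, ← h, wval_append', wval_append', wval_append', hrev comA, hrev comB]
    · exact fun l hm => hl.1.1 l (Or.inl (Or.inl (Or.inr hm)))
    · exact fun l hm => hl.1.1 l (Or.inl (Or.inl (Or.inl hm)))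
  rw [← e, commutator_def]
  exact Subgroup.commutator_mem_commutator (Subgroup.mem_top _) (Subgroup.mem_top _)

/-- The projection onto the model of the Higman-Sims group. -/
noncomputable def projG : Cover →* HSModel.grp := proj.codRestrict _ fun g => proj_range ▸ ⟨g, rfl⟩

theorem projG_surj : Function.Surjective projG := fun x => by
  obtain ⟨g, hg⟩ := (proj_range.symm ▸ x.2 : x.1 ∈ proj.range)
  exact ⟨g, Subtype.ext hg⟩

theorem grp_simple : IsSimpleGroup HSModel.grp := by
  obtain ⟨e⟩ := HSModel.exists_equiv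
  haveI : IsSimpleGroup hsGrp := hsGrp_isHS.1
  exact MulEquiv.isSimpleGroup ((sporEquiv.symm.trans e).symm)

theorem cover_perfect : commutator Cover = ⊤ := by
  haveI := grp_simple
  have hker : projG.ker ≤ commutator Cover := by
    intro g hg
    rw [projG, MonoidHom.ker_codRestrict] at hg
    rcases ker_mem hg with rfl | rfl
    exacts [one_mem _, zD_comm]
  have him : (commutator Cover).map projG = ⊤ := by
    haveI : ((commutator Cover).map projG).Normal := Subgroup.Normal.map inferInstance _ projG_surj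
    refine (Subgroup.Normal.eq_bot_or_eq_top inferInstance).resolve_left fun h => ?_
    obtain ⟨x, hx, hxy⟩ := List.any_eq_true.1 z_facts.2.2.2.2.2
    obtain ⟨h1, h2⟩ : ncPair.1 < 7 ∧ ncPair.2 < 7 := ⟨z_facts.2.2.2.1, z_facts.2.2.2.2.1⟩
    have hb : projG ⁅imD ncPair.1, imD ncPair.2⁆ = 1 := by
      rw [← Subgroup.mem_bot, ← h]
      exact Subgroup.mem_map_of_mem _ (by
        rw [commutator_def]
        exact Subgroup.commutator_mem_commutator (Subgroup.mem_top _) (Subgroup.mem_top _))
    have hb' : proj ⁅imD ncPair.1, imD ncPair.2⁆ = 1 := congrArg Subtype.val hb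
    rw [map_commutatorElement, commutatorElement_eq_one_iff_mul_comm] at hb'
    have key : ∀ a b, a < 7 → b < 7 → ∀ p : Fin 100,
        (((proj (imD a) * proj (imD b))⁻¹ p : Fin 100) : ℕ) = evalW covTabs [a, b] p := fun a b ha hb p => by
      have e := evalW_apply (fun l => proj (imD l)) (MonoidHom.id _) covTabs act100 [a, b] (by
        intro l hl
        rw [covTabs_length]
        simp at hl
        omega) p
      simpa [wval] using e
    rw [bne_iff_ne, ← key _ _ h1 h2 ⟨x, List.mem_range.1 hx⟩, ← key _ _ h2 h1 ⟨x, List.mem_range.1 hx⟩, hb'] at hxy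
    exact hxy rfl
  refine eq_top_iff.2 fun g _ => ?_
  obtain ⟨d, hd, hdg⟩ : projG g ∈ (commutator Cover).map projG := him ▸ Subgroup.mem_top _
  have : d⁻¹ * g ∈ projG.ker := by rw [MonoidHom.mem_ker, map_mul, map_inv, hdg, inv_mul_cancel]
  simpa using mul_mem hd (hker this)

theorem val_pcFlat (pcw : List (List ℕ)) : ∀ l : List ℕ,
    val (fun k => wval imD (pcw.getD k [])) l = wval imD (pcFlat pcw l)
  | [] => rfl
  | k :: l => by
    rw [Cfsg.Lib.Schur.Prime.val_cons, val_pcFlat pcw l,
      show pcFlat pcw (k :: l) = pcw.getD k [] ++ pcFlat pcw l from List.flatMap_cons .., wval_append']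

theorem not_dvd_ker (c : Cfsg.Lib.Schur.Prime.Cert) (pcw fw : List (List ℕ))
    (levels : List (ℕ × List (List ℕ) × List (ℕ × ℕ × ℕ))) (hp : c.p.Prime) (hc : c.ok = true)
    (hrules : ∀ j < c.n, ruleC c pcw j = true) (hfus : fusC c pcw fw = true) (hcount : countC c pcw levels = true)
    (hfact : (88704000 : ℕ).factorization c.p = c.n)
    {Γ : Type} [Group Γ] [Finite Γ] {σ : Γ →* Cover} (hσ : Cfsg.IsStemExtension σ) :
    ¬ c.p ∣ Nat.card σ.ker := by
  simp only [countC, Bool.and_eq_true, List.all_eq_true, decide_eq_true_eq] at hcount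
  obtain ⟨⟨hidx, hchain⟩, hsize⟩ := hcount
  set x : ℕ → Cover := fun k => wval imD (pcw.getD k [])
  have hr : ∀ j < c.n, ∀ i ≤ j, val x (c.lhs j i) = val x (c.tail j i) := fun j hj i hi => by
    have h := List.all_eq_true.mp (hrules j hj) i (List.mem_range.mpr (by omega))
    rw [val_pcFlat, val_pcFlat]
    exact sameC_sound h
  have hf : ∀ f ∈ c.fuse, ∃ g, ∀ k < f.1.length,
      g * val x (f.1.getD k []) * g⁻¹ = val x (f.2.1.getD k []) := by
    intro f hf
    obtain ⟨i, hi, rfl⟩ := List.mem_iff_getElem.mp hf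
    refine ⟨wval imD (fw.getD i []), fun k hk => ?_⟩
    have h := List.all_eq_true.mp hfus i (List.mem_range.mpr hi)
    rw [List.getD_eq_getElem _ _ hi] at h
    have e := sameC_sound (List.all_eq_true.mp h k (List.mem_range.mpr hk))
    rw [wval_append', wval_append', ← val_pcFlat, ← val_pcFlat] at e
    rw [mul_inv_eq_iff_eq_mul]
    exact e
  have hshape : c.shapesOK = true := by
    simp only [Cfsg.Lib.Schur.Prime.Cert.ok, Bool.and_eq_true] at hc
    exact hc.1.2
  have hset : ({i | 0 ≤ i ∧ i < c.n} : Set ℕ) = {i | i < c.n} := by ext; simp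
  have hup := Cfsg.Lib.Schur.Prime.card_sub_le c hshape hp.pos x hr c.n 0 (Nat.zero_add _)
  rw [Cfsg.Lib.Schur.Prime.sub, hset] at hup
  set P := Subgroup.closure (x '' {i | i < c.n}) with hP
  have hlow : c.p ^ c.n ≤ Nat.card P := by
    have hmem : ∀ K ∈ levsOf pcw levels, ∀ w ∈ K.gens, wval imD w ∈ P := by
      intro K hK w hw
      obtain ⟨L, hL, rfl⟩ := List.mem_map.mp hK
      obtain ⟨l, hl, rfl⟩ := List.mem_map.mp hw
      rw [← val_pcFlat]
      refine Subgroup.list_prod_mem _ fun z hz => ?_
      obtain ⟨q, hq, rfl⟩ := List.mem_map.mp hz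
      exact Subgroup.subset_closure ⟨q, hidx L hL l hl q hq, rfl⟩
    exact hsize ▸ chain_bound imD (step 7).subtype covTabs tabledD.act (levsOf pcw levels) P
      (covTabs_length.symm ▸ hchain) inferInstance hmem
  have heq : Nat.card P = c.p ^ c.n := le_antisymm hup hlow
  exact Cfsg.Lib.Schur.Prime.Cert.not_dvd c hp hc hσ x hr hf (by rw [← hP, heq, card_cover, hfact]) heq.symm

theorem cover_ker_eq_bot {Γ : Type} [Group Γ] [Finite Γ] {σ : Γ →* Cover} (hσ : Cfsg.IsStemExtension σ) :
    σ.ker = ⊥ := by
  have hf : ∀ p k : ℕ, p.Prime → p ^ k ∣ 88704000 → ¬ p ^ (k + 1) ∣ 88704000 →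
      (88704000 : ℕ).factorization p = k := fun p k hp h1 h2 => by
    refine le_antisymm ?_ ((hp.pow_dvd_iff_le_factorization (by norm_num)).mp h1)
    by_contra h
    exact h2 ((hp.pow_dvd_iff_le_factorization (by norm_num)).mpr (by omega))
  refine Cfsg.Lib.Schur.ker_eq_bot_of_sylow hσ fun p hp => ?_
  haveI := hp
  have hp' := hp.out
  have hone : ∀ {q : ℕ}, q.Prime → p ∣ q → p = q := fun hq h => (Nat.prime_dvd_prime_iff_eq hp' hq).mp h
  by_cases h2 : p ^ 2 ∣ 88704000
  · have hmem : p = 2 ∨ p = 3 ∨ p = 5 := by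
      have h1 : p ∣ 2 ^ 10 * 3 ^ 2 * 5 ^ 3 * 77 := (dvd_pow_self p two_ne_zero).trans (by norm_num; exact h2)
      rcases hp'.dvd_mul.mp h1 with h | h
      · rcases hp'.dvd_mul.mp h with h | h
        · rcases hp'.dvd_mul.mp h with h | h
          · exact Or.inl (hone Nat.prime_two (hp'.dvd_of_dvd_pow h))
          · exact Or.inr (Or.inl (hone Nat.prime_three (hp'.dvd_of_dvd_pow h)))
        · exact Or.inr (Or.inr (hone (by norm_num) (hp'.dvd_of_dvd_pow h)))
      · rcases hp'.dvd_mul.mp (show p ∣ 7 * 11 from h) with h | h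
        · obtain rfl := hone (by norm_num) h
          norm_num at h2
        · obtain rfl := hone (by norm_num) h
          norm_num at h2
    rcases hmem with rfl | rfl | rfl
    · exact certTwo.exists_sylow (not_dvd_ker certTwo pcwTwo fwTwo sylTwo (show Nat.Prime 2 by norm_num) certTwo_ok
        (fun j hj => List.all_eq_true.mp rulesTwo j (List.mem_range'_1.mpr ⟨Nat.zero_le _, by simpa [certTwo] using hj⟩))
        fusTwo countTwo (hf 2 10 (by norm_num) (by norm_num) (by norm_num)) hσ)
    · exact certThree.exists_sylow (not_dvd_ker certThree pcwThree fwThree sylThree (show Nat.Prime 3 by norm_num) certThree_ok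
        (fun j hj => List.all_eq_true.mp rulesThree j (List.mem_range'_1.mpr ⟨Nat.zero_le _, by simpa [certThree] using hj⟩))
        fusThree countThree (hf 3 2 (by norm_num) (by norm_num) (by norm_num)) hσ)
    · exact certFive.exists_sylow (not_dvd_ker certFive pcwFive fwFive sylFive (show Nat.Prime 5 by norm_num) certFive_ok
        (fun j hj => List.all_eq_true.mp rulesFive j (List.mem_range'_1.mpr ⟨Nat.zero_le _, by simpa [certFive] using hj⟩))
        fusFive countFive (hf 5 3 (by norm_num) (by norm_num) (by norm_num)) hσ)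
  · exact Cfsg.Lib.Schur.exists_sylow_cyclic hσ (by rwa [card_cover])

/-- The multiplier of the Higman-Sims group. -/
theorem multiplier_hs : Cfsg.HasCyclicSchurMultiplier ↥Cfsg.Spor.HS 2 := by
  obtain ⟨e⟩ := HSModel.exists_equiv
  set π : Cover →* ↥Cfsg.Spor.HS := e.symm.toMonoidHom.comp projG
  have hker : π.ker = proj.ker := by
    ext g
    simp [π, projG]
  have hk : Nat.card π.ker = 2 := by rw [hker, card_ker]
  haveI : Finite ↥Cfsg.Spor.HS := by
    haveI : Finite HSModel.grp := Nat.finite_of_card_ne_zero (by rw [card_grp]; norm_num)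
    exact Finite.of_equiv _ e.symm.toEquiv
  have hcen : π.ker ≤ Subgroup.center Cover := by
    intro g hg
    rw [hker] at hg
    rcases ker_mem hg with rfl | rfl
    exacts [one_mem _, zD_central]
  exact Cfsg.Lib.Schur.hasCyclicSchurMultiplier_of_cover π
    ⟨e.symm.surjective.comp projG_surj, hcen, by rw [cover_perfect]; exact le_top⟩ cover_perfect
    (fun _ _ _ _ hτ => cover_ker_eq_bot hτ) (isCyclic_of_prime_card (hp := ⟨Nat.prime_two⟩) hk) hk

end Cfsg.Lib.HSModel.Cov
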