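import Cfsg.Agent.HSModel.Model
import Cfsg.Prelude.Def_KGroupFacts

/-!
The outer automorphism group of the Higman-Sims group on the permutation model.
-/

set_option autoImplicit false
set_option maxRecDepth 4000
set_option Elab.async false

namespace Cfsg.Lib.HSModel

open Cfsg Cfsg.Lib.CosetCert Cfsg.Lib.PermCert

theorem imH_act : ∀ l < xTabs.length, valid 100 (xTabs.getD l (0, 0)) = true ∧
    (MonoidHom.id (Equiv.Perm (Fin 100))) (imH l) = perm 100 (xTabs.getD l (0, 0)) :=
  fun _ hl => ⟨tab_getD_valid hl, rfl⟩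

theorem inX_lt {w : List ℕ} (h : inX w = true) : ∀ l ∈ w, l < xTabs.length := fun l hl =>
  Nat.le_of_ble_eq_true (List.all_eq_true.1 h l hl)

theorem evalX {w : List ℕ} (h : inX w = true) (x : Fin 100) :
    (((wval imH w)⁻¹ x : Fin 100) : ℕ) = evalW xTabs w x :=
  evalW_apply imH (MonoidHom.id _) xTabs imH_act w (inX_lt h) x

theorem sameW_sound {w v : List ℕ} (h : sameW w v = true) : wval imH w = wval imH v := by
  simp only [sameW, Bool.and_eq_true, List.all_eq_true, List.mem_range, beq_iff_eq] at h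
  refine inv_injective (Equiv.ext fun x => Fin.ext ?_)
  rw [evalX h.1.1, evalX h.1.2, h.2 x.val x.isLt]

theorem sameW_of_eq {w v : List ℕ} (hw : inX w = true) (hv : inX v = true) (h : wval imH w = wval imH v) :
    sameW w v = true := by
  simp only [sameW, Bool.and_eq_true, List.all_eq_true, List.mem_range, beq_iff_eq]
  exact ⟨⟨hw, hv⟩, fun x hx => by rw [← evalX hw ⟨x, hx⟩, h, evalX hv ⟨x, hx⟩]⟩

theorem wval_app (v w : List ℕ) : wval imH (v ++ w) = wval imH v * wval imH w := by simp [wval]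

theorem wval_head (a : ℕ) (w : List ℕ) : wval imH (a :: w) = imH a * wval imH w := by simp [wval]

theorem wval_one (a : ℕ) : wval imH [a] = imH a := by simp [wval]

theorem wval_two (a b : ℕ) : wval imH [a, b] = imH a * imH b := by simp [wval]

theorem wval_repl (g j : ℕ) : wval imH (List.replicate j g) = imH g ^ j := by simp [wval]

theorem inX_repl {g : ℕ} (h : g < 10) (j : ℕ) : inX (List.replicate j g) = true :=
  List.all_eq_true.2 fun l hl => by
    rw [(List.mem_replicate.1 hl).2]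
    exact Nat.ble_eq_true_of_le h

theorem inX_of_low {w : List ℕ} (h : ∀ l ∈ w, l < 4) : inX w = true :=
  List.all_eq_true.2 fun l hl => Nat.ble_eq_true_of_le (by have := h l hl; omega)

theorem inX_append {v w : List ℕ} (hv : inX v = true) (hw : inX w = true) : inX (v ++ w) = true := by
  simp only [inX, List.all_append, Bool.and_eq_true] at *
  exact ⟨hv, hw⟩

theorem tabled : Tabled imH (MonoidHom.id (Equiv.Perm (Fin 100))) tabs where
  act l hl := by
    have hl' : l < 4 := hl
    have e : tabs.getD l (0, 0) = xTabs.getD l (0, 0) := by interval_cases l <;> rfl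
    rw [e]
    exact imH_act l (show l < 10 by omega)
  sq l hl := by
    have h := sameW_sound (List.all_eq_true.1 squares l (List.mem_range.2 hl))
    rwa [wval_two, show wval imH [] = 1 from rfl] at h

theorem imH_grp {l : ℕ} (hl : l < 4) : imH l ∈ grp :=
  ⟨imH_mem (by interval_cases l <;> simp), MonoidHom.mem_ker.2 (sign_low ⟨l, hl⟩)⟩

theorem low_mem {w : List ℕ} (h : ∀ l ∈ w, l < 4) : wval imH w ∈ grp :=
  grp.list_prod_mem fun g hg => by
    obtain ⟨l, hl, rfl⟩ := List.mem_map.1 hg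
    exact imH_grp (h l hl)

theorem gens_low {S : SLev} (h : S ∈ chainU ++ chainY) : ∀ g ∈ S.lev.gens, ∀ l ∈ g, l < 4 := fun g hg l hl =>
  Nat.le_of_ble_eq_true (List.all_eq_true.1 (List.all_eq_true.1 (List.all_eq_true.1 gens_lt S h) g hg) l hl)

theorem closure_eq : Subgroup.closure (imH '' Set.Iio 4) = grp := by
  refine Subgroup.eq_of_le_of_card_ge ((Subgroup.closure_le _).2 ?_) ?_
  · rintro _ ⟨l, hl, rfl⟩
    exact imH_grp hl
  · rw [card_grp, ← chains_ok.2.2.1]
    refine chain_bound imH (MonoidHom.id _) tabs tabled.act _ _ chains_ok.1 inferInstance fun K hK w hw => ?_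
    obtain ⟨S, hS, rfl⟩ := List.mem_map.1 hK
    refine Subgroup.list_prod_mem _ fun g hg => ?_
    obtain ⟨l, hl, rfl⟩ := List.mem_map.1 hg
    exact Subgroup.subset_closure ⟨l, gens_low (List.mem_append_left _ hS) w hw l hl, rfl⟩

/-- The letters of a sifted word. -/
theorem sift_low : ∀ (c : List SLev) (ts w : List ℕ), CosetCert.sift tabs c ts = some w →
    (∀ S ∈ c, ∀ g ∈ S.lev.gens, ∀ l ∈ g, l < 4) → ∀ l ∈ w, l < 4
  | [], _, w, h, _ => by
    simp only [CosetCert.sift, Option.some.injEq] at h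
    subst h
    simp
  | _ :: _, [], w, h, _ => by simp [CosetCert.sift] at h
  | S :: r, t :: ts, w, h, hg => by
    simp only [CosetCert.sift] at h
    cases hf : S.idx.find? fun e => e.1 == t with
    | none => simp [hf] at h
    | some e =>
      simp only [hf] at h
      cases hs : CosetCert.sift tabs r (ts.map (evalW tabs (genWordL S.lev.gens e.2).reverse)) with
      | none => simp [hs] at h
      | some v =>
        simp only [hs, Option.some.injEq] at h
        subst h
        intro l hl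
        rcases List.mem_append.1 hl with hl | hl
        · exact sift_low r _ v hs (fun M hM => hg M (List.mem_cons_of_mem S hM)) l hl
        · exact genWordL_lt (tabs := tabs) (hg S List.mem_cons_self) l hl

theorem found {c : List SLev} (hc : c = chainU ∨ c = chainY) {z : Equiv.Perm (Fin 100)} (hz : z ∈ grp) {ts : List ℕ}
    (h : List.Forall₂ (fun S t => ∀ p : Fin 100, p.val = S.lev.b → (z⁻¹ p).val = t) c ts) :
    ∃ w, CosetCert.sift tabs c ts = some w ∧ (∀ l ∈ w, l < 4) ∧ wval imH w = z := by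
  obtain ⟨h1, h2, h3, h4, h5, h6⟩ := chains_ok
  have hmem : ∀ S ∈ c, ∀ g ∈ S.lev.gens, ∀ l ∈ g, l < 4 := fun S hS => by
    rcases hc with rfl | rfl
    · exact gens_low (List.mem_append_left _ hS)
    · exact gens_low (List.mem_append_right _ hS)
  have main : ∃ w, CosetCert.sift tabs c ts = some w ∧ wval imH w = z := by
    rcases hc with rfl | rfl
    · exact sift_complete tabled _ grp inferInstance h1 h2 (fun S hS w hw => low_mem (hmem S hS w hw))
        (by rw [card_grp, h3]) z hz ts h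
    · exact sift_complete tabled _ grp inferInstance h4 h5 (fun S hS w hw => low_mem (hmem S hS w hw))
        (by rw [card_grp, h6]) z hz ts h
  obtain ⟨w, hw, e⟩ := main
  exact ⟨w, hw, sift_low c ts w hw hmem, e⟩

theorem images_at {c : List SLev} {g : ℕ} (hg : g < 10) {z : Equiv.Perm (Fin 100)} (hcomm : z * imH g = imH g * z)
    (ps : List (ℕ × ℕ)) (hb : (c.map fun S => S.lev.b) = imagesAt g ps id) (r : ℕ → ℕ)
    (hps : ∀ p ∈ ps, ∃ h : p.2 < 100, (z⁻¹ ⟨p.2, h⟩).val = r p.2) :
    List.Forall₂ (fun S t => ∀ p : Fin 100, p.val = S.lev.b → (z⁻¹ p).val = t) c (imagesAt g ps r) := by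
  rw [← List.forall₂_map_left_iff (f := fun S : SLev => S.lev.b)
    (R := fun b t => ∀ p : Fin 100, p.val = b → (z⁻¹ p).val = t), hb, imagesAt, imagesAt, List.forall₂_map_left_iff,
    List.forall₂_map_right_iff]
  refine List.forall₂_same.2 fun p hp q hq => ?_
  obtain ⟨h, hr⟩ := hps p hp
  have e : q = (wval imH (List.replicate p.1 g))⁻¹ ⟨p.2, h⟩ := Fin.ext (by
    rw [hq, evalX (inX_repl hg _)]
    rfl)
  rw [← hr, ← evalX (inX_repl hg _), e, ← Equiv.Perm.mul_apply, ← Equiv.Perm.mul_apply, ← mul_inv_rev, ← mul_inv_rev,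
    wval_repl, (Commute.pow_right hcomm p.1).eq]

theorem low_words : (∀ l ∈ uWord, l < 4) ∧ (∀ l ∈ xWord, l < 4) ∧ (∀ l ∈ yWord, l < 4) ∧ (∀ l ∈ zWord, l < 4) ∧
    ∀ l ∈ nWord, l < 4 := by
  have h := local_ok.2.2.2.2.2.2.2.2.2.2
  simp only [List.all_append, Bool.and_eq_true, List.all_eq_true] at h
  exact ⟨fun l hl => Nat.le_of_ble_eq_true (h.1.1.1.1 l hl), fun l hl => Nat.le_of_ble_eq_true (h.1.1.1.2 l hl),
    fun l hl => Nat.le_of_ble_eq_true (h.1.1.2 l hl), fun l hl => Nat.le_of_ble_eq_true (h.1.2 l hl),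
    fun l hl => Nat.le_of_ble_eq_true (h.2 l hl)⟩

theorem word_mem {a : ℕ} {w : List ℕ} (h : sameW [a] w = true) (hw : ∀ l ∈ w, l < 4) : imH a ∈ grp := by
  rw [← wval_one, sameW_sound h]
  exact low_mem hw

/-- The element of order seven. -/
noncomputable def uG : grp := ⟨imH 4, word_mem local_ok.2.2.2.2.2.1 low_words.1⟩
/-- The generator beside it. -/
noncomputable def xG : grp := ⟨imH 5, word_mem local_ok.2.2.2.2.2.2.1 low_words.2.1⟩
/-- The element of order three. -/
noncomputable def yG : grp := ⟨imH 6, word_mem local_ok.2.2.2.2.2.2.2.1 low_words.2.2.1⟩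
/-- The other possible image. -/
noncomputable def zG : grp := ⟨imH 7, word_mem local_ok.2.2.2.2.2.2.2.2.1 low_words.2.2.2.1⟩
/-- An element inducing a generator on the powers. -/
noncomputable def nG : grp := ⟨imH 8, word_mem local_ok.2.2.2.2.2.2.2.2.2.1 low_words.2.2.2.2⟩

theorem uG_pow : uG ^ 7 = 1 := Subtype.ext (by
  have h := sameW_sound local_ok.1
  rw [wval_repl, show wval imH [] = 1 from rfl] at h
  rw [SubmonoidClass.coe_pow, uG, h]
  rfl)

theorem uG_order : orderOf uG = 7 := by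
  haveI : Fact (Nat.Prime 7) := ⟨by norm_num⟩
  refine orderOf_eq_prime uG_pow fun h => ?_
  have e : imH 4 = 1 := congrArg Subtype.val h
  have := sameW_of_eq (w := [4]) (v := []) rfl rfl (by rw [wval_one, e]; rfl)
  rw [local_ok.2.1] at this
  exact Bool.noConfusion this

theorem uG_pow_mod (n : ℕ) : uG ^ n = uG ^ (n % 7) := by
  conv_lhs => rw [← pow_mod_orderOf, uG_order]

theorem uy : yG * uG ^ 2 = uG * yG := Subtype.ext (by
  have h := sameW_sound local_ok.2.2.1
  simp only [wval, List.map_cons, List.map_nil, List.prod_cons, List.prod_nil, mul_one] at h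
  rw [Subgroup.coe_mul, Subgroup.coe_mul, SubmonoidClass.coe_pow, pow_two]
  exact h.symm)

theorem un : nG * uG ^ 3 = uG * nG := Subtype.ext (by
  have h := sameW_sound local_ok.2.2.2.1
  simp only [wval, List.map_cons, List.map_nil, List.prod_cons, List.prod_nil, mul_one] at h
  rw [Subgroup.coe_mul, Subgroup.coe_mul, SubmonoidClass.coe_pow, pow_three]
  exact h.symm)

theorem xy : xG * yG = yG * xG := Subtype.ext (by
  have h := sameW_sound local_ok.2.2.2.2.1
  rw [wval_two, wval_two] at h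
  exact h)

/-- The centraliser of the element of order seven. -/
theorem cent_u {c : grp} (hc : c * uG = uG * c) : ∃ i < 7, c = uG ^ i := by
  have hcomm : (c : Equiv.Perm (Fin 100)) * imH 4 = imH 4 * c := congrArg Subtype.val hc
  set r := ((c : Equiv.Perm (Fin 100))⁻¹ ⟨2, by norm_num⟩).val with hr
  obtain ⟨w, hw, hlow, e⟩ := found (Or.inl rfl) c.2
    (images_at (by norm_num) hcomm posU bases_ok.1 (fun _ => r) fun p hp => by
      obtain ⟨j, -, rfl⟩ := List.mem_map.1 hp
      exact ⟨by norm_num, rfl⟩)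
  have ht := List.all_eq_true.1 testU_ok r (List.mem_range.2 (Fin.isLt _))
  rw [testU, hw] at ht
  simp only [Bool.or_eq_true, Bool.not_eq_true', List.any_eq_true, List.mem_range] at ht
  rcases ht with ht | ⟨i, hi, hs⟩
  · have hs : sameW (w ++ [4]) (4 :: w) = true :=
      sameW_of_eq (inX_append (inX_of_low hlow) rfl) (inX_append (v := [4]) rfl (inX_of_low hlow))
        (by rw [wval_app, wval_one, wval_head, e, hcomm])
    rw [hs] at ht
    exact Bool.noConfusion ht
  · refine ⟨i, hi, Subtype.ext ?_⟩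
    rw [← e, sameW_sound hs, wval_repl, SubmonoidClass.coe_pow]
    rfl

/-- The value of a relation. -/
def relVal {M : Type*} [Group M] (a u : M) (d : ℕ × List ℕ) : M := ((d.2.map fun i => a * u ^ i).prod) ^ d.1

theorem map_relVal {M N : Type*} [Group M] [Group N] (f : M →* N) (a u : M) (d : ℕ × List ℕ) :
    f (relVal a u d) = relVal (f a) (f u) d := by
  rw [relVal, relVal, map_pow, map_list_prod, List.map_map]
  congr 2
  exact List.map_congr_left fun i _ => by simp

theorem wval_relWord (d : ℕ × List ℕ) (x : List ℕ) :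
    wval imH (relWord d x) = relVal (wval imH x) (imH 4) d := by
  have h : ∀ c : List ℕ, wval imH (c.flatMap fun i => x ++ List.replicate i 4) =
      (c.map fun i => wval imH x * imH 4 ^ i).prod := fun c => by
    induction c with
    | nil => rfl
    | cons i c ih => rw [List.flatMap_cons, wval_app, wval_app, wval_repl, ih, List.map_cons, List.prod_cons]
  have h2 : ∀ (k : ℕ) (v : List ℕ), wval imH (List.replicate k v).flatten = wval imH v ^ k := fun k v => by
    induction k with
    | zero => rfl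
    | succ k ih => rw [List.replicate_succ, List.flatten_cons, wval_app, ih, pow_succ']
  rw [relWord, h2, h]
  rfl

theorem inX_relWord (d : ℕ × List ℕ) {x : List ℕ} (hx : inX x = true) : inX (relWord d x) = true := by
  refine List.all_eq_true.2 fun l hl => ?_
  rw [relWord, List.mem_flatten] at hl
  obtain ⟨v, hv, hl⟩ := hl
  rw [(List.mem_replicate.1 hv).2, List.mem_flatMap] at hl
  obtain ⟨i, -, hl⟩ := hl
  exact List.all_eq_true.1 (inX_append hx (inX_repl (by norm_num) i)) l hl

theorem testY_all {a b : ℕ} (ha : a < 100) (hb : b < 100) : testY a b = true := by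
  have hb' := List.mem_range.2 hb
  by_cases h0 : a < 25
  · exact List.all_eq_true.1 (List.all_eq_true.1 testY0 a (List.mem_range'_1.2 (by omega))) b hb'
  by_cases h1 : a < 50
  · exact List.all_eq_true.1 (List.all_eq_true.1 testY1 a (List.mem_range'_1.2 (by omega))) b hb'
  by_cases h2 : a < 75
  · exact List.all_eq_true.1 (List.all_eq_true.1 testY2 a (List.mem_range'_1.2 (by omega))) b hb'
  · exact List.all_eq_true.1 (List.all_eq_true.1 testY3 a (List.mem_range'_1.2 (by omega))) b hb'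

theorem relVal_x : ∀ d ∈ relData, relVal xG uG d = 1 := fun d hd => Subtype.ext (by
  have h := sameW_sound (List.all_eq_true.1 rel_ok d hd)
  rw [wval_relWord, wval_one] at h
  exact (map_relVal grp.subtype xG uG d).trans h)

/-- The images of the generator beside the element of order seven. -/
theorem cent_y {c : grp} (hc : c * yG = yG * c) (hrel : ∀ d ∈ relData, relVal c uG d = 1) : c = xG ∨ c = zG := by
  have hcomm : (c : Equiv.Perm (Fin 100)) * imH 6 = imH 6 * c := congrArg Subtype.val hc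
  set r₁ := ((c : Equiv.Perm (Fin 100))⁻¹ ⟨16, by norm_num⟩).val with hr1
  set r₂ := ((c : Equiv.Perm (Fin 100))⁻¹ ⟨15, by norm_num⟩).val with hr2
  obtain ⟨w, hw, hlow, e⟩ := found (Or.inr rfl) c.2
    (images_at (by norm_num) hcomm posY bases_ok.2 (fun b => if b = 16 then r₁ else r₂) fun p hp => by
      rw [posY, List.mem_append] at hp
      rcases hp with hp | hp <;> obtain ⟨j, -, rfl⟩ := List.mem_map.1 hp
      · exact ⟨by norm_num, by simp [hr1]⟩
      · exact ⟨by norm_num, by simp [hr2]⟩)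
  have ht := testY_all (a := r₁) (b := r₂) (Fin.isLt _) (Fin.isLt _)
  rw [testY, hw] at ht
  simp only [Bool.or_eq_true, Bool.not_eq_true', List.any_eq_true] at ht
  have hwx := inX_of_low hlow
  rcases ht with ((ht | ht) | ⟨d, hd, ht⟩) | ht
  · exact Or.inl (Subtype.ext (by rw [← e, sameW_sound ht, wval_one]; rfl))
  · exact Or.inr (Subtype.ext (by rw [← e, sameW_sound ht, wval_one]; rfl))
  · rw [sameW_of_eq (inX_relWord d hwx) rfl (by
      rw [wval_relWord, e]
      exact (map_relVal grp.subtype c uG d).symm.trans (congrArg Subtype.val (hrel d hd)))] at ht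
    exact Bool.noConfusion ht
  · have hs : sameW (w ++ [6]) (6 :: w) = true :=
      sameW_of_eq (inX_append hwx rfl) (inX_append (v := [6]) rfl hwx)
        (by rw [wval_app, wval_one, wval_head, e, hcomm])
    rw [hs] at ht
    exact Bool.noConfusion ht

/-- Elements of order seven are conjugate. -/
theorem seven_class {v : grp} (hv : orderOf v = 7) : ∃ g, g * v * g⁻¹ = uG := by
  haveI : Fact (Nat.Prime 7) := ⟨by norm_num⟩
  have h7 : (44352000 : ℕ).factorization 7 = 1 := by
    refine le_antisymm ?_ ((Nat.Prime.pow_dvd_iff_le_factorization (by norm_num) (by norm_num)).mp (by norm_num))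
    by_contra h
    exact absurd ((Nat.Prime.pow_dvd_iff_le_factorization (p := 7) (k := 2) (by norm_num) (by norm_num)).mpr
      (by omega)) (by norm_num : ¬ 7 ^ 2 ∣ 44352000)
  have hcard : ∀ w : grp, orderOf w = 7 → Nat.card (Subgroup.zpowers w) = 7 ^ (Nat.card grp).factorization 7 :=
    fun w hw => by rw [Nat.card_zpowers, hw, card_grp, h7, pow_one]
  let P : Sylow 7 grp := Sylow.ofCard _ (hcard v hv)
  let Q : Sylow 7 grp := Sylow.ofCard _ (hcard uG uG_order)
  obtain ⟨g, hg⟩ := MulAction.exists_smul_eq grp P Q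
  have h1 : g * v * g⁻¹ ∈ (g • P : Sylow 7 grp).toSubgroup := by
    rw [Sylow.coe_subgroup_smul]
    exact Subgroup.mem_pointwise_smul_iff_inv_smul_mem.mpr (by
      have : v ∈ (P : Subgroup grp) := Subgroup.mem_zpowers v
      simpa [MulAut.smul_def, mul_assoc] using this)
  rw [hg] at h1
  have h2 : g * v * g⁻¹ ∈ Subgroup.zpowers uG := h1
  obtain ⟨i, hi⟩ := Submonoid.mem_powers_iff _ _ |>.1 ((isOfFinOrder_of_finite uG).mem_powers_iff_mem_zpowers.2 h2)
  have hi' : uG ^ (i % 7) = g * v * g⁻¹ := by rw [← uG_pow_mod, hi]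
  have hne : i % 7 ≠ 0 := fun h => by
    rw [h, pow_zero, eq_comm, conj_eq_one_iff] at hi'
    rw [hi', orderOf_one] at hv
    norm_num at hv
  obtain ⟨m, hm⟩ := (show ∀ r : Fin 7, r.val ≠ 0 → ∃ m : Fin 6, 3 ^ m.val % 7 = r.val by decide)
    ⟨i % 7, Nat.mod_lt _ (by norm_num)⟩ hne
  have hpow : ∀ k : ℕ, SemiconjBy (nG ^ k) (uG ^ 3 ^ k) uG := fun k => by
    induction k with
    | zero => simp
    | succ k ih =>
      rw [pow_succ nG, pow_succ 3, mul_comm (3 ^ k) 3, pow_mul]
      exact ih.mul_left ((show SemiconjBy nG (uG ^ 3) uG from un).pow_right (3 ^ k))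
  refine ⟨nG ^ m.val * g, ?_⟩
  have hn := hpow m.val
  rw [SemiconjBy, uG_pow_mod (3 ^ m.val), hm, hi'] at hn
  calc nG ^ m.val * g * v * (nG ^ m.val * g)⁻¹ = nG ^ m.val * (g * v * g⁻¹) * (nG ^ m.val)⁻¹ := by group
    _ = uG := by rw [hn, mul_inv_cancel_right]

theorem pow_y (a : ℕ) : uG ^ a * yG = yG * uG ^ (2 * a) := by
  rw [pow_mul]
  exact ((show SemiconjBy yG (uG ^ 2) uG from uy).pow_right a).symm

/-- The normal form of an automorphism. -/
theorem normal_form (φ : MulAut grp) : ∃ g : grp,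
    (MulAut.conj g * φ) uG = uG ∧ ((MulAut.conj g * φ) xG = xG ∨ (MulAut.conj g * φ) xG = zG) := by
  obtain ⟨g1, hg1⟩ := seven_class (v := φ uG) (by rw [MulEquiv.orderOf_eq φ, uG_order])
  set ψ := MulAut.conj g1 * φ with hψ
  have hψu : ψ uG = uG := by rw [hψ, MulAut.mul_apply, MulAut.conj_apply, hg1]
  have hz : ψ yG * uG ^ 2 = uG * ψ yG := by
    have h := congrArg ψ uy
    rwa [map_mul, map_mul, map_pow, hψu] at h
  have hcomm : (ψ yG * yG⁻¹) * uG = uG * (ψ yG * yG⁻¹) := by
    have h2 : yG⁻¹ * uG = uG ^ 2 * yG⁻¹ := by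
      rw [inv_mul_eq_iff_eq_mul, ← mul_assoc, uy, mul_inv_cancel_right]
    rw [mul_assoc, h2, ← mul_assoc, hz, mul_assoc]
  obtain ⟨i, hi, hiy⟩ := cent_u hcomm
  have hψy : ψ yG = uG ^ i * yG := by rw [← hiy, inv_mul_cancel_right]
  set m := 5 * i % 7 with hm
  have hinvm : (uG ^ m)⁻¹ = uG ^ (6 * m) := by
    refine inv_eq_of_mul_eq_one_right ?_
    rw [← pow_add, uG_pow_mod, show (m + 6 * m) % 7 = 0 by omega, pow_zero]
  refine ⟨uG ^ m * g1, ?_⟩
  rw [map_mul, mul_assoc, ← hψ]
  set χ := MulAut.conj (uG ^ m) * ψ with hχ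
  have hχu : χ uG = uG := by
    rw [hχ, MulAut.mul_apply, MulAut.conj_apply, hψu, (Commute.pow_self uG m).eq, mul_inv_cancel_right]
  have hχy : χ yG = yG := by
    rw [hχ, MulAut.mul_apply, MulAut.conj_apply, hψy, ← mul_assoc, ← pow_add, pow_y, hinvm, mul_assoc, ← pow_add,
      uG_pow_mod, show (2 * (m + i) + 6 * m) % 7 = 0 by omega, pow_zero, mul_one]
  refine ⟨hχu, cent_y ?_ fun d hd => ?_⟩
  · have := congrArg χ xy
    rwa [map_mul, map_mul, hχy] at this
  · have := map_relVal χ.toMonoidHom xG uG d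
    rw [relVal_x d hd, map_one] at this
    rw [this]
    exact congrArg (fun t => relVal (χ xG) t d) hχu.symm

theorem aut_ext {φ ψ : MulAut grp} (hu : φ uG = ψ uG) (hx : φ xG = ψ xG) : φ = ψ := by
  let K : Subgroup (Equiv.Perm (Fin 100)) := (MonoidHom.eqLocus φ.toMonoidHom ψ.toMonoidHom).map grp.subtype
  have h4 : imH 4 ∈ K := ⟨uG, hu, rfl⟩
  have h5 : imH 5 ∈ K := ⟨xG, hx, rfl⟩
  have hle : grp ≤ K := by
    rw [← closure_eq, Subgroup.closure_le]
    rintro _ ⟨l, hl, rfl⟩
    have h := List.all_eq_true.1 let_ok l (List.mem_range.2 hl)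
    simp only [Bool.and_eq_true, List.all_eq_true, Bool.or_eq_true, beq_iff_eq] at h
    rw [← wval_one, ← sameW_sound h.1]
    refine K.list_prod_mem fun g hg => ?_
    obtain ⟨a, ha, rfl⟩ := List.mem_map.1 hg
    rcases h.2 a ha with rfl | rfl
    exacts [h4, h5]
  refine MulEquiv.ext fun z => ?_
  obtain ⟨y, hy, e⟩ := hle z.2
  obtain rfl : y = z := Subtype.ext e
  exact hy

/-- Conjugation by an odd automorphism of the graph. -/
noncomputable def outAut : MulAut grp where
  toFun g := ⟨imH 9 * g.1 * (imH 9)⁻¹, ⟨Subgroup.mul_mem _ (Subgroup.mul_mem _ (imH_mem (by simp)) g.2.1)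
    (Subgroup.inv_mem _ (imH_mem (by simp))), MonoidHom.mem_ker.2 (by simp [MonoidHom.mem_ker.1 g.2.2])⟩⟩
  invFun g := ⟨(imH 9)⁻¹ * g.1 * imH 9, ⟨Subgroup.mul_mem _ (Subgroup.mul_mem _
    (Subgroup.inv_mem _ (imH_mem (by simp))) g.2.1) (imH_mem (by simp)),
    MonoidHom.mem_ker.2 (by simp [MonoidHom.mem_ker.1 g.2.2])⟩⟩
  left_inv g := Subtype.ext (by simp [mul_assoc])
  right_inv g := Subtype.ext (by simp [mul_assoc])
  map_mul' g h := Subtype.ext (by simp [mul_assoc])

theorem cent_trivial {c : Equiv.Perm (Fin 100)} (h : ∀ g ∈ grp, c * g = g * c) : c = 1 := by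
  have key : ∀ w, (∀ l ∈ w, l < 4) → ∀ p : Fin 100,
      evalW xTabs w (c⁻¹ p).val = (c⁻¹ ((wval imH w)⁻¹ p)).val := fun w hw p => by
    rw [← evalX (inX_of_low hw) (c⁻¹ p), ← Equiv.Perm.mul_apply, ← Equiv.Perm.mul_apply, ← mul_inv_rev, ← mul_inv_rev,
      h _ (low_mem hw)]
  have h0 : c⁻¹ (0 : Fin 100) = 0 := by
    by_contra hne
    have hs := stab_ok
    simp only [Bool.and_eq_true, List.all_eq_true, beq_iff_eq, List.any_eq_true] at hs
    have hv : (c⁻¹ (0 : Fin 100)).val ≠ 0 := fun e => hne (Fin.ext e)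
    obtain ⟨w, hw, hmv⟩ := hs.2 _ (List.mem_range'_1.2 ⟨Nat.one_le_iff_ne_zero.2 hv, by omega⟩)
    obtain ⟨hlow, hfix⟩ := hs.1 w hw
    have hl : ∀ l ∈ w, l < 4 := fun l hl => Nat.le_of_ble_eq_true (hlow l hl)
    refine (bne_iff_ne.1 hmv) ?_
    have e : (wval imH w)⁻¹ (0 : Fin 100) = 0 := Fin.ext ((evalX (inX_of_low hl) 0).trans hfix)
    rw [key w hl, e]
  refine inv_eq_one.1 (Equiv.ext fun x => Fin.ext ?_)
  obtain ⟨e, -, he⟩ := List.any_eq_true.1 (List.all_eq_true.1 orbit_ok x.val (List.mem_range.2 x.isLt))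
  simp only [Bool.and_eq_true, List.all_eq_true, beq_iff_eq] at he
  obtain ⟨hlow, hx⟩ := he
  have hl : ∀ l ∈ genWordL chainO0.lev.gens e.2, l < 4 := fun l hl => Nat.le_of_ble_eq_true (hlow l hl)
  have ex : x = (wval imH (genWordL chainO0.lev.gens e.2))⁻¹ (0 : Fin 100) :=
    Fin.ext ((evalX (inX_of_low hl) 0).trans hx).symm
  rw [Equiv.Perm.one_apply]
  conv_lhs => rw [ex]
  rw [← key _ hl, h0]
  exact hx

theorem outAut_outer : outAut ∉ Cfsg.Inn grp := by
  rintro ⟨g, hg⟩
  have hc : ∀ a ∈ grp, ((g : Equiv.Perm (Fin 100))⁻¹ * imH 9) * a = a * ((g : Equiv.Perm (Fin 100))⁻¹ * imH 9) := by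
    intro a ha
    have h : (g : Equiv.Perm (Fin 100)) * a * (g : Equiv.Perm (Fin 100))⁻¹ = imH 9 * a * (imH 9)⁻¹ :=
      (congrArg Subtype.val (DFunLike.congr_fun hg (⟨a, ha⟩ : grp)) :)
    calc (g : Equiv.Perm (Fin 100))⁻¹ * imH 9 * a
        = (g : Equiv.Perm (Fin 100))⁻¹ * (imH 9 * a * (imH 9)⁻¹) * imH 9 := by group
      _ = (g : Equiv.Perm (Fin 100))⁻¹ * ((g : Equiv.Perm (Fin 100)) * a * (g : Equiv.Perm (Fin 100))⁻¹) * imH 9 := by
        rw [h]
      _ = a * ((g : Equiv.Perm (Fin 100))⁻¹ * imH 9) := by group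
  have e := inv_mul_eq_one.1 (cent_trivial hc)
  have h1 : Equiv.Perm.sign (g : Equiv.Perm (Fin 100)) = 1 := MonoidHom.mem_ker.1 g.2.2
  rw [e, sign_tau] at h1
  exact absurd h1 (by decide)

theorem card_out_grp : Nat.card (Cfsg.Out grp) = 2 := by
  classical
  have hcls : ∀ (φ : MulAut grp) (g : grp) (ψ : MulAut grp), MulAut.conj g * φ = ψ →
      (φ : Cfsg.Out grp) = (ψ : Cfsg.Out grp) := fun φ g ψ e => by
    refine QuotientGroup.eq.2 ?_
    rw [← e, show φ⁻¹ * (MulAut.conj g * φ) = φ⁻¹ * MulAut.conj g * φ⁻¹⁻¹ by group]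
    exact (Cfsg.innNormal _).conj_mem _ ⟨g, rfl⟩ φ⁻¹
  have hne : ((1 : MulAut grp) : Cfsg.Out grp) ≠ (outAut : Cfsg.Out grp) := fun h => by
    refine outAut_outer ?_
    have := QuotientGroup.eq.1 h
    rwa [inv_one, one_mul] at this
  rw [Nat.card_eq_two_iff]
  refine ⟨_, _, hne, Set.eq_univ_iff_forall.2 fun q => ?_⟩
  obtain ⟨φ, rfl⟩ := QuotientGroup.mk_surjective q
  obtain ⟨g, hu, hg⟩ := normal_form φ
  obtain ⟨g', hu', hg'⟩ := normal_form outAut
  rcases hg' with hg' | hg'
  · exact absurd (hcls outAut g' 1 (aut_ext (hu'.trans rfl) (hg'.trans rfl))).symm hne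
  rcases hg with hg | hg
  · exact Or.inl (hcls φ g 1 (aut_ext (hu.trans rfl) (hg.trans rfl)))
  · refine Or.inr (Set.mem_singleton_iff.2 ?_)
    rw [hcls φ g _ rfl, hcls outAut g' _ rfl, aut_ext (hu.trans hu'.symm) (hg.trans hg'.symm)]

/-- Isomorphic groups have equally many outer classes. -/
noncomputable def outCongr {G H : Type*} [Group G] [Group H] (e : G ≃* H) : Cfsg.Out G ≃* Cfsg.Out H :=
  QuotientGroup.congr _ _ (MulAut.congr e) (by
    apply le_antisymm
    · rintro _ ⟨_, ⟨g, rfl⟩, rfl⟩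
      exact ⟨e g, MulEquiv.ext fun x => by simp [MulAut.congr]⟩
    · rintro _ ⟨h, rfl⟩
      exact ⟨_, ⟨e.symm h, rfl⟩, MulEquiv.ext fun x => by simp [MulAut.congr]⟩)

/-- The outer automorphism group of the Higman-Sims group has order two. -/
theorem card_out : Nat.card (Cfsg.Out ↥Cfsg.Spor.HS) = 2 := by
  obtain ⟨e⟩ := exists_equiv
  rw [Nat.card_congr (outCongr e).toEquiv, card_out_grp]

end Cfsg.Lib.HSModel
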