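import Cfsg.Agent.HSModel.Data
import Mathlib.GroupTheory.Perm.Sign

/-!
Kernel checks for the permutation model of the Higman-Sims group on 100 vertices.
-/

set_option autoImplicit false
set_option Elab.async false

namespace Cfsg.Lib.HSModel

open Cfsg.Lib.CosetCert Cfsg.Lib.PermCert

/-- Membership of a point in a hexad. -/
def hexBit (i a : ℕ) : Bool := hexBig.testBit (22 * i + a)

/-- The hexad of an index. -/
def blockOf (i : Fin 77) : Finset (Fin 22) := Finset.univ.filter fun a : Fin 22 => hexBit i.val a.val

/-- Adjacency by the rows. -/
def adjB (x y : ℕ) : Bool := rowsBig.testBit (100 * x + y)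

/-- The defining relation, on indices. -/
def relB (x y : ℕ) : Bool :=
  if x = 0 then Nat.ble 1 y && Nat.ble y 22
  else if x ≤ 22 then Nat.ble 23 y && hexBit (y - 23) (x - 1)
  else Nat.ble 23 y && ((List.range 22).all fun a => !(hexBit (x - 23) a && hexBit (y - 23) a))

theorem block_card : ∀ i : Fin 77, (blockOf i).card = 6 := by decide +kernel

theorem block_distinct : ((List.range 77).all fun i => (List.range i).all fun j =>
    (List.range 22).any fun a => hexBit i a != hexBit j a) = true := by decide +kernel

/-- Three distinct points lie in exactly one hexad. -/
def tripleOK (a b c : ℕ) : Bool :=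
  ((List.range 77).filter fun i => hexBit i a && hexBit i b && hexBit i c).length == 1

theorem triple_all : ((List.range 22).all fun c => (List.range c).all fun b => (List.range b).all fun a =>
    tripleOK a b c) = true := by decide +kernel

theorem rows_ok : ((List.range 100).all fun x => (List.range 100).all fun y =>
    adjB x y == ((x != y) && (relB x y || relB y x))) = true := by decide +kernel

theorem tabs_valid : xTabs.all (valid 100) = true := by decide +kernel

theorem tabs_aut : ([0, 1, 2, 3, 9].all fun l => (List.range 100).all fun x => (List.range 100).all fun y =>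
    adjB (ap (xTabs.getD l (0, 0)).1 x) (ap (xTabs.getD l (0, 0)).1 y) == adjB x y) = true := by decide +kernel

/-- The permutation of a letter. -/
def imH (l : ℕ) : Equiv.Perm (Fin 100) := perm 100 (xTabs.getD l (0, 0))

theorem sign_low : ∀ l : Fin 4, Equiv.Perm.sign (imH l.val) = 1 := by decide +kernel

theorem sign_tau : Equiv.Perm.sign (imH 9) = -1 := by decide +kernel

/-- All letters are in the alphabet. -/
def inX (w : List ℕ) : Bool := w.all fun l => Nat.blt l 10

/-- Two words give the same permutation. -/
def sameW (w v : List ℕ) : Bool :=
  inX w && inX v && (List.range 100).all fun x => evalW xTabs w x == evalW xTabs v x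

theorem squares : ((List.range 4).all fun l => sameW [l, l] []) = true := by decide +kernel

theorem chains_ok : chainOK tabs 100 4 (chainU.map SLev.lev) = true ∧ chainU.all (SLev.ok tabs) = true ∧
    chainSize (chainU.map SLev.lev) = 44352000 ∧ chainOK tabs 100 4 (chainY.map SLev.lev) = true ∧
    chainY.all (SLev.ok tabs) = true ∧ chainSize (chainY.map SLev.lev) = 44352000 := by decide +kernel

theorem gens_lt : ((chainU ++ chainY).all fun S => S.lev.gens.all fun g => g.all fun l => Nat.blt l 4) = true := by
  decide +kernel

/-- Orbit positions: an exponent and a starting point. -/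
def posU : List (ℕ × ℕ) := (List.range 6).map fun j => (j, 2)

/-- The same for the element of order three. -/
def posY : List (ℕ × ℕ) := ((List.range 3).map fun j => (j, 16)) ++ ((List.range 3).map fun j => (j, 15))

/-- The images of orbit positions, given the images of the starting points. -/
def imagesAt (g : ℕ) (ps : List (ℕ × ℕ)) (r : ℕ → ℕ) : List ℕ :=
  ps.map fun p => evalW xTabs (List.replicate p.1 g) (r p.2)

theorem bases_ok : (chainU.map fun S => S.lev.b) = imagesAt 4 posU id ∧
    (chainY.map fun S => S.lev.b) = imagesAt 6 posY id := by decide +kernel

/-- The test for the centraliser of the element of order seven. -/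
def testU (r : ℕ) : Bool :=
  match sift tabs chainU (imagesAt 4 posU fun _ => r) with
  | none => true
  | some w => !sameW (w ++ [4]) (4 :: w) || (List.range 7).any fun i => sameW w (List.replicate i 4)

theorem testU_ok : (List.range 100).all testU = true := by decide +kernel

/-- A relation word in an element and powers of the element of order seven. -/
def relWord (d : ℕ × List ℕ) (x : List ℕ) : List ℕ :=
  (List.replicate d.1 (d.2.flatMap fun i => x ++ List.replicate i 4)).flatten

/-- The test for the centraliser of the element of order three. -/
def testY (r₁ r₂ : ℕ) : Bool :=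
  match sift tabs chainY (imagesAt 6 posY fun b => if b = 16 then r₁ else r₂) with
  | none => true
  | some w => sameW w [5] || sameW w [7] || (relData.any fun d => !sameW (relWord d w) []) ||
      !sameW (w ++ [6]) (6 :: w)

theorem testY0 : ((List.range' 0 25).all fun a => (List.range 100).all (testY a)) = true := by decide +kernel
theorem testY1 : ((List.range' 25 25).all fun a => (List.range 100).all (testY a)) = true := by decide +kernel
theorem testY2 : ((List.range' 50 25).all fun a => (List.range 100).all (testY a)) = true := by decide +kernel
theorem testY3 : ((List.range' 75 25).all fun a => (List.range 100).all (testY a)) = true := by decide +kernel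

theorem rel_ok : (relData.all fun d => sameW (relWord d [5]) []) = true := by decide +kernel

theorem local_ok : sameW (List.replicate 7 4) [] = true ∧ sameW [4] [] = false ∧
    sameW [4, 6] [6, 4, 4] = true ∧ sameW [4, 8] [8, 4, 4, 4] = true ∧ sameW [5, 6] [6, 5] = true ∧
    sameW [4] uWord = true ∧ sameW [5] xWord = true ∧ sameW [6] yWord = true ∧ sameW [7] zWord = true ∧
    sameW [8] nWord = true ∧
    ((uWord ++ xWord ++ yWord ++ zWord ++ nWord).all fun l => Nat.blt l 4) = true := by decide +kernel

theorem let_ok : ((List.range 4).all fun l => sameW (letWords.getD l []) [l] &&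
    (letWords.getD l []).all fun a => a == 4 || a == 5) = true := by decide +kernel

theorem orbit_ok : ((List.range 100).all fun x => chainO0.idx.any fun e =>
    (genWordL chainO0.lev.gens e.2).all (fun l => Nat.blt l 4) &&
      (evalW xTabs (genWordL chainO0.lev.gens e.2) 0 == x)) = true := by decide +kernel

theorem stab_ok : ((chainOGens1.all fun w => w.all (fun l => Nat.blt l 4) && (evalW xTabs w 0 == 0)) &&
    ((List.range' 1 99).all fun x => chainOGens1.any fun w => evalW xTabs w x != x)) = true := by decide +kernel

end Cfsg.Lib.HSModel
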