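import Cfsg.Agent.CosetCert.Lower
import Cfsg.Agent.Schur.PrimeCert

/-!
Generated: certificates at the primes 2, 3 and 5 for the double cover of the Higman-Sims group.
-/

set_option autoImplicit false

namespace Cfsg.Lib.HSModel.Cov

open Cfsg.Lib.PermCert

open Cfsg.Lib.Schur.Prime (Cert)

/-- The certificate. -/
def certTwo : Cert where
  p := 2
  n := 10
  tails := [[[1,2,4,9]],
    [[0,2,4,5,7,8,9], [3,5,6,8]],
    [[0,1,3,4,6,7], [1,2,3,6,7,8], [4,5,6]],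
    [[0,4,5,8], [1,4], [2,5,6,9], [5,7,8,9]],
    [[0,3,5,7], [1,3,4,6,7,8], [2,3,4,5,6,7,8], [3,6,7], [8]],
    [[0,5,8,9], [1,5,7,8], [2,5,7,9], [3,5,7,8], [4,5,8,9], [7,9]],
    [[0,3,4,6], [1,3,5,7], [2,3,7,8,9], [3,4,7], [4,6,7,8], [5,6,7,8], [7]],
    [[0,5,9], [1,5,8], [2,5,9], [3,7,8,9], [4,9], [5,9], [6,7], []],
    [[0,5,8], [1,5,7], [2,5,8], [3,7], [4,8], [5,7,8,9], [6,7,8,9], [7,8], []],
    [[0,5,7], [1,5,7,8,9], [2,5,7], [3,8], [4,7], [5,7], [6,9], [7,9], [8,9], []]]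
  overlaps := [([0,0,0],1), ([1,1,0],1), ([1,0,0],1), ([1,1,1],1), ([2,2,0],1), ([2,0,0],1), ([2,1,0],1), ([2,2,1],1), ([2,1,1],1), ([2,2,2],1), ([3,3,0],1), ([3,0,0],1), ([3,1,0],1), ([3,3,1],1), ([3,1,1],1), ([3,2,0],1), ([3,2,1],1), ([3,3,2],1), ([3,2,2],1), ([3,3,3],1), ([4,4,0],1), ([4,0,0],1), ([4,1,0],1), ([4,4,1],1), ([4,1,1],1), ([4,2,0],1), ([4,2,1],1), ([4,4,2],1), ([4,2,2],1), ([4,3,0],1), ([4,3,1],1), ([4,3,2],1), ([4,4,3],1), ([4,3,3],1), ([4,4,4],1), ([5,5,0],1), ([5,0,0],1), ([5,1,0],1), ([5,5,1],1), ([5,5,2],1), ([5,3,0],1)]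
  fuse := [([[0,2,4,6,8], [0,1,4,5,7,8], [3,6,7,9], [0,2,3,4,7], [0,2,3,4,9], [0,2,3,5,6,7,8], [8,9]], [[1,2,4,6,7,8,9], [0,2,3,5,6,7,8,9], [0,1,3,4,5,6,7,9], [3,5,8,9], [3,4,5,6,8], [3,4,6], [5,9]], [([0,0],[3,5]), ([1,0],[0,1,3,5]), ([2,0],[0,2,6]), ([2,1],[1,2,3,4]), ([2,2],[3,5,6]), ([3,0],[0,4,6]), ([3,1],[1,3,4,5,6]), ([3,3],[6]), ([4,1],[1,5])]),
    ([[0,3,5,7,9], [0,1,7,8], [3,5,6,8], [1,2,4,5,8,9], [1,2,3,5,9], [4,5,6,8,9], [0,1,7], [0,1,5,7], [0,1,5,9]], [[0,6,7,8], [0,1,8], [0,3,4,5,6,7,8], [0,3,4,6,8,9], [1,2,3,4,6,7], [1,2,3,5,9], [1,2,3,4,6,7,8], [4,6,7,8,9], [4,6,8]], [([0,0],[4,7,8]), ([1,0],[0,1,2,3,5,6,7]), ([2,1],[1,3,4,7,8]), ([6,2],[2,5,7])])]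
  delta := [[], [], [], [(11,1), (20,1), (21,1), (22,1)], [(0,1), (10,1), (11,1), (20,1)], [(11,1), (22,1), (30,1)], [(0,1), (10,1), (20,1), (30,1)], [(21,1), (22,1), (30,1)], [(0,1), (10,1), (11,1), (21,1)], [(10,1), (11,1), (20,1)]]
  sels := [[[]],
    [[], []],
    [[], [], []],
    [[], [(0,1), (2,1), (3,1), (4,1), (5,1), (6,1), (8,1), (9,1), (10,1), (11,1), (13,1), (14,1), (15,1), (16,1), (19,1), (20,1), (24,1), (27,1), (31,1), (33,1), (34,1), (35,1), (36,1), (39,1), (40,1), (41,1), (42,1), (44,1), (46,1), (47,1), (49,1), (50,1), (51,1), (52,1), (53,1)], [(1,1), (2,1), (6,1), (8,1), (9,1), (11,1), (12,1), (14,1), (16,1), (18,1), (20,1), (21,1), (22,1), (24,1), (25,1), (26,1), (29,1), (30,1), (31,1), (32,1), (33,1), (34,1), (36,1), (37,1), (38,1), (39,1), (40,1), (43,1), (44,1), (45,1), (49,1), (50,1), (51,1), (52,1), (53,1)], [(0,1), (1,1), (2,1), (3,1), (4,1),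 (11,1), (12,1), (13,1), (15,1), (20,1), (22,1), (23,1), (24,1), (27,1), (28,1), (31,1), (32,1), (35,1), (37,1), (38,1), (39,1), (40,1), (43,1), (45,1), (46,1), (47,1), (50,1), (51,1), (52,1), (53,1)]],
    [[(1,1), (4,1), (5,1), (6,1), (9,1), (12,1), (14,1), (15,1), (16,1), (17,1), (19,1), (22,1), (23,1), (24,1), (26,1), (27,1), (28,1), (29,1), (34,1), (35,1), (36,1), (38,1), (41,1), (44,1), (45,1), (46,1), (47,1), (48,1), (49,1)], [(1,1), (2,1), (5,1), (6,1), (11,1), (12,1), (13,1), (14,1), (16,1), (18,1), (19,1), (20,1), (22,1), (24,1), (26,1), (27,1), (29,1), (30,1), (33,1), (34,1), (36,1), (37,1), (38,1), (39,1), (40,1), (41,1), (42,1), (43,1), (44,1), (46,1)], [(1,1), (2,1), (5,1), (6,1), (7,1), (8,1), (9,1), (13,1), (15,1), (19,1), (25,1), (26,1), (28,1), (32,1), (34,1), (35,1), (40,1), (42,1), (44,1), (45,1), (46,1)], [(1,1), (7,1), (14,1), (18,1), (19,1), (21,1),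 (23,1), (24,1), (25,1), (26,1), (30,1), (33,1), (39,1), (40,1), (41,1), (42,1), (43,1), (44,1), (46,1), (47,1), (48,1), (49,1)], [(0,1), (1,1), (2,1), (4,1), (5,1), (8,1), (9,1), (10,1), (16,1), (18,1), (19,1), (20,1), (22,1), (23,1), (25,1), (27,1), (29,1), (31,1), (32,1), (34,1), (35,1), (39,1), (40,1), (41,1), (42,1), (44,1), (46,1), (47,1), (49,1), (50,1), (51,1), (52,1), (53,1)]],
    [[(0,1), (1,1), (3,1), (5,1), (7,1), (8,1), (10,1), (11,1), (13,1), (16,1), (17,1), (18,1), (19,1), (20,1), (21,1), (23,1), (27,1), (28,1), (29,1), (31,1), (32,1), (35,1), (39,1), (41,1), (44,1), (45,1), (46,1), (47,1), (48,1), (49,1)], [(0,1), (3,1), (4,1), (5,1), (7,1), (10,1), (12,1), (13,1), (14,1), (15,1), (18,1), (21,1), (23,1), (26,1), (27,1), (29,1), (31,1), (33,1), (35,1), (36,1), (37,1), (38,1), (40,1), (42,1), (43,1), (44,1), (45,1), (46,1), (47,1), (49,1)], [(0,1), (2,1),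 (3,1), (6,1), (9,1), (10,1), (12,1), (17,1), (20,1), (21,1), (23,1), (25,1), (27,1), (33,1), (34,1), (35,1), (36,1), (38,1), (39,1), (41,1), (43,1), (44,1), (47,1)], [(0,1), (1,1), (2,1), (4,1), (6,1), (7,1), (8,1), (9,1), (10,1), (11,1), (14,1), (15,1), (16,1), (18,1), (19,1), (21,1), (30,1), (33,1), (34,1), (35,1), (36,1), (37,1), (40,1), (43,1), (45,1), (46,1), (47,1)], [(0,1), (1,1), (3,1), (5,1), (11,1), (14,1), (16,1), (24,1), (25,1), (28,1), (30,1), (31,1), (32,1), (33,1), (35,1), (36,1), (38,1), (39,1), (41,1), (44,1), (45,1), (46,1), (47,1), (48,1), (49,1)], [(0,1), (3,1), (5,1), (9,1), (10,1), (16,1), (17,1), (18,1), (19,1), (21,1), (23,1), (24,1), (29,1), (31,1), (32,1), (33,1), (35,1), (39,1), (40,1), (41,1), (43,1), (44,1), (47,1)]],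
    [[(2,1), (6,1), (7,1), (8,1), (10,1), (14,1), (15,1), (16,1), (20,1), (21,1), (23,1), (24,1), (25,1), (27,1), (28,1), (29,1), (30,1), (31,1), (32,1), (33,1), (34,1), (36,1), (39,1), (40,1), (43,1), (45,1), (46,1), (48,1), (49,1), (50,1), (51,1), (52,1), (53,1)], [(2,1), (4,1), (5,1), (6,1), (9,1), (13,1), (18,1), (22,1), (23,1), (26,1), (29,1), (30,1), (32,1), (34,1), (35,1), (36,1), (42,1), (43,1), (45,1), (50,1), (51,1), (52,1), (53,1)], [(0,1), (1,1), (4,1), (5,1), (6,1), (10,1), (11,1), (13,1), (14,1), (16,1), (17,1), (24,1), (33,1), (36,1), (39,1), (40,1), (42,1), (44,1), (45,1), (46,1), (47,1), (48,1), (49,1), (50,1), (51,1), (52,1), (53,1)], [(0,1), (3,1), (5,1), (8,1), (9,1), (10,1), (11,1), (12,1), (14,1), (16,1), (18,1), (20,1), (21,1), (23,1), (27,1), (28,1), (30,1), (33,1), (35,1), (36,1), (38,1), (39,1), (40,1), (41,1), (42,1), (43,1), (44,1), (46,1)],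 [(0,1), (5,1), (7,1), (8,1), (14,1), (17,1), (19,1), (22,1), (24,1), (25,1), (26,1), (29,1), (30,1), (32,1), (33,1), (34,1), (36,1), (38,1), (39,1), (40,1), (43,1), (45,1), (46,1), (47,1)], [(4,1), (8,1), (10,1), (11,1), (13,1), (17,1), (19,1), (21,1), (27,1), (29,1), (32,1), (33,1), (35,1), (36,1), (37,1), (39,1), (42,1), (43,1), (44,1), (45,1), (46,1), (47,1), (49,1)], [(0,1), (2,1), (5,1), (6,1), (7,1), (8,1), (9,1), (10,1), (14,1), (18,1), (19,1), (20,1), (22,1), (23,1), (26,1), (27,1), (28,1), (29,1), (30,1), (31,1), (32,1), (34,1), (36,1), (37,1), (41,1), (42,1), (43,1), (44,1), (45,1), (49,1), (50,1), (51,1), (52,1), (53,1)]],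
    [[(3,1), (4,1), (5,1), (6,1), (7,1), (8,1), (10,1), (11,1), (16,1), (17,1), (18,1), (22,1), (27,1), (32,1), (34,1), (35,1), (36,1), (37,1), (39,1), (41,1), (43,1), (45,1)], [(1,1), (2,1), (4,1), (12,1), (13,1), (14,1), (16,1), (20,1), (21,1), (22,1), (26,1), (27,1), (35,1), (39,1), (43,1), (44,1), (46,1), (47,1), (48,1), (49,1)], [(1,1), (2,1), (3,1), (4,1), (8,1), (9,1), (10,1), (11,1), (12,1), (13,1), (14,1), (17,1), (20,1), (21,1), (23,1), (25,1), (28,1), (31,1), (32,1), (33,1), (36,1), (37,1), (38,1), (41,1), (43,1), (45,1), (47,1), (48,1), (49,1)], [(0,1), (1,1), (2,1), (3,1), (4,1), (6,1), (11,1), (13,1), (14,1), (15,1), (17,1), (19,1), (21,1), (24,1), (26,1), (27,1), (29,1), (30,1), (32,1), (33,1), (36,1), (39,1), (40,1), (41,1), (42,1), (45,1), (46,1), (47,1), (48,1)], [(6,1), (8,1), (11,1), (14,1), (15,1), (17,1), (19,1), (21,1), (28,1), (29,1), (30,1), (31,1),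 (34,1), (36,1), (37,1), (38,1), (41,1), (42,1), (43,1), (48,1)], [(1,1), (3,1), (4,1), (10,1), (11,1), (13,1), (14,1), (15,1), (16,1), (17,1), (18,1), (20,1), (21,1), (22,1), (23,1), (25,1), (26,1), (27,1), (28,1), (31,1), (32,1), (33,1), (34,1), (35,1), (36,1), (37,1), (41,1), (42,1), (43,1), (48,1)], [(1,1), (3,1), (4,1), (7,1), (8,1), (9,1), (11,1), (12,1), (13,1), (14,1), (15,1), (16,1), (17,1), (18,1), (23,1), (26,1), (29,1), (31,1), (33,1), (36,1), (37,1)], [(2,1), (3,1), (5,1), (6,1), (7,1), (9,1), (11,1), (12,1), (13,1), (15,1), (17,1), (22,1), (24,1), (27,1), (29,1), (36,1), (37,1), (38,1), (39,1), (42,1), (44,1), (47,1), (48,1)]],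
    [[(0,1), (1,1), (2,1), (3,1), (4,1), (5,1), (6,1), (19,1), (20,1), (23,1), (24,1), (26,1), (29,1), (31,1), (32,1), (34,1), (35,1), (36,1), (37,1), (40,1), (44,1), (45,1), (48,1), (49,1)], [(0,1), (1,1), (3,1), (7,1), (9,1), (10,1), (13,1), (15,1), (19,1), (20,1), (22,1), (23,1), (27,1), (32,1), (33,1), (39,1), (42,1), (43,1), (46,1), (47,1), (48,1)], [(1,1), (2,1), (9,1), (15,1), (16,1), (17,1), (19,1), (23,1), (26,1), (32,1), (33,1), (39,1), (44,1), (45,1), (47,1)], [(2,1), (5,1), (7,1), (8,1), (18,1), (22,1), (23,1), (24,1), (25,1), (27,1), (28,1), (30,1), (31,1), (32,1), (33,1), (35,1), (36,1), (37,1), (38,1), (40,1), (42,1), (43,1), (44,1), (45,1), (46,1), (48,1)], [(34,1)], [(1,1), (4,1), (8,1), (11,1), (12,1), (13,1), (16,1), (18,1), (23,1), (25,1), (26,1), (29,1), (30,1), (32,1), (33,1), (35,1), (37,1), (39,1), (41,1), (43,1), (44,1), (47,1)], [(6,1), (7,1),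 (8,1), (10,1), (11,1), (15,1), (17,1), (18,1), (20,1), (21,1), (26,1), (28,1), (34,1), (36,1), (38,1), (40,1), (41,1), (43,1), (44,1), (47,1)], [(3,1), (8,1), (9,1), (12,1), (14,1), (15,1), (18,1), (22,1), (24,1), (25,1), (27,1), (29,1), (30,1), (31,1), (34,1), (35,1), (37,1), (40,1)], [(2,1), (5,1), (6,1), (8,1), (11,1), (12,1), (14,1), (17,1), (18,1), (20,1), (21,1), (22,1), (23,1), (27,1), (28,1), (34,1), (35,1), (36,1), (37,1), (40,1), (42,1), (44,1), (47,1), (48,1)]],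
    [[(4,1), (5,1), (6,1), (8,1), (9,1), (10,1), (16,1), (18,1), (19,1), (21,1), (22,1), (23,1), (24,1), (26,1), (27,1), (28,1), (31,1), (32,1), (33,1), (35,1), (37,1), (41,1), (43,1), (45,1)], [(0,1), (2,1), (5,1), (9,1), (11,1), (12,1), (15,1), (16,1), (19,1), (21,1), (24,1), (25,1), (28,1), (29,1), (34,1), (35,1), (36,1), (37,1), (38,1), (40,1), (42,1), (43,1), (46,1), (49,1)], [(5,1), (9,1), (10,1), (11,1), (13,1), (15,1), (17,1), (18,1), (20,1), (21,1), (23,1), (24,1), (25,1), (28,1), (34,1), (35,1), (39,1), (41,1), (43,1), (45,1), (47,1), (48,1), (49,1)], [(1,1), (2,1), (3,1), (4,1), (5,1), (6,1), (9,1), (12,1), (15,1), (16,1), (18,1), (20,1), (22,1), (24,1), (25,1), (28,1), (29,1), (32,1), (33,1), (36,1), (38,1), (40,1), (41,1), (44,1), (45,1), (46,1)], [(1,1), (3,1), (4,1), (9,1), (10,1), (11,1), (13,1), (15,1), (20,1), (21,1), (22,1), (23,1), (25,1), (26,1),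 (27,1), (28,1), (30,1), (31,1), (32,1), (34,1), (37,1), (38,1), (40,1), (41,1), (42,1), (43,1), (48,1)], [(0,1), (1,1), (3,1), (4,1), (5,1), (7,1), (9,1), (11,1), (12,1), (15,1), (16,1), (17,1), (18,1), (20,1), (21,1), (28,1), (29,1), (31,1), (32,1), (33,1), (34,1), (35,1), (36,1), (41,1), (42,1), (43,1), (48,1)], [(1,1), (3,1), (4,1), (6,1), (7,1), (9,1), (10,1), (14,1), (18,1), (19,1), (20,1), (21,1), (22,1), (23,1), (26,1), (35,1), (38,1), (40,1)], [(1,1), (4,1), (8,1), (9,1), (11,1), (15,1), (19,1), (20,1), (22,1), (23,1), (24,1), (28,1), (30,1), (31,1), (33,1), (34,1), (35,1), (37,1), (40,1)], [(6,1), (7,1), (8,1), (9,1), (10,1), (11,1), (17,1), (18,1), (20,1), (21,1), (23,1), (25,1), (26,1), (27,1), (30,1), (31,1), (32,1), (33,1), (35,1), (38,1), (40,1)], [(0,1), (2,1), (3,1), (8,1), (9,1), (11,1), (12,1), (13,1), (18,1), (19,1), (20,1), (22,1), (25,1), (26,1),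 (27,1), (28,1), (29,1), (31,1), (32,1), (33,1), (35,1), (38,1), (39,1), (40,1), (42,1), (44,1), (47,1), (48,1)]]]

/-- The words of the generators. -/
def pcwTwo : List (List ℕ) := [[0,3,2,6,5,4,1,0,4,5,2,1,6,2,3,0],
  [0,5,1,4,5,1,6,1,4,5,0,1,2],
  [1,0,4,0,3,6,5,0,4,2,0],
  [0,5,6,5,4,0,3,2,5,6,2,3,1,6,1],
  [0,1,6,2,4,5,0,1,4,3,2,6],
  [4,5,6,2,3,6,5,4,0,1,6,1,6,5,1],
  [1,0,5,0,3,4,0,6,5,4,2,0],
  [1,6,5,4,0,5,1,4,1,5,6,0,4,1],
  [6,2,3,5,4,1,6,2,5,6,1,4,5,3,2,0],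
  [4,5,6,2,6,5,4,1,0,1,6,1]]

/-- The words of the conjugators. -/
def fwTwo : List (List ℕ) := [[5,1,5,6,2,4,6,1,0,4,5,6,1,5,4,1],
  [5,1,0,4,5,6,1,5,4,2,6,1,5,0,1,0]]

def sylTwoGen0P0 : List (List ℕ) :=
  [[3,9],
   [1,6],
   [2,1],
   [1],
   [4,3],
   [0,1],
   [5,0],
   [7,3],
   [0,6,9],
   [0,0],
   [9,0],
   [3,2],
   [6],
   [4,1],
   [1,9],
   [0,6],
   [0,5],
   [2,0],
   [0,2,8],
   [9,1],
   [0,1,3],
   [0,1,0],
   [2,6],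
   [1,8],
   [3,6],
   [1,3],
   [6,0],
   [6,3],
   [1,9,1],
   [4],
   [4,8],
   [0,4,8],
   [5],
   [6,4],
   [2,4],
   [4,5],
   [0,3],
   [1,7],
   [2,7],
   [0,1,6]]

def sylTwoGen0P1 : List (List ℕ) :=
  [[0,8],
   [9],
   [5,9],
   [0,4],
   [3,0],
   [0,2],
   [2],
   [3,7],
   [0,6,1],
   [7],
   [3],
   [3,3],
   [0,3,3],
   [2,9],
   [4,7],
   [0,3,8],
   [6,8],
   [1,0],
   [0],
   [0,9],
   [0,8,2],
   [1,4],
   [0,4,7]]

def sylTwoOrb0P0 : List (ℕ × ℕ × ℕ) :=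
  [(2,1,0),
   (3,1,1),
   (5,1,2),
   (6,1,3),
   (7,1,4),
   (8,1,5),
   (10,1,6),
   (12,1,7),
   (13,1,8),
   (14,1,9),
   (16,1,10),
   (17,1,11),
   (19,1,12),
   (20,1,13),
   (21,1,14),
   (23,1,15),
   (25,1,16),
   (28,1,17),
   (29,1,18),
   (30,1,19),
   (34,1,20),
   (35,1,21),
   (36,1,22),
   (37,1,23),
   (38,1,24),
   (39,1,25),
   (40,1,26),
   (42,1,27),
   (43,1,28),
   (45,1,29),
   (46,1,30),
   (47,1,31),
   (48,1,32),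
   (49,1,33),
   (52,1,34),
   (53,1,35),
   (55,1,36),
   (56,1,37),
   (57,1,38),
   (58,1,39)]

def sylTwoOrb0P1 : List (ℕ × ℕ × ℕ) :=
  [(59,1,40),
   (60,1,41),
   (64,1,42),
   (65,1,43),
   (67,1,44),
   (68,1,45),
   (69,1,46),
   (71,1,47),
   (74,1,48),
   (77,1,49),
   (79,1,50),
   (81,1,51),
   (82,1,52),
   (84,1,53),
   (86,1,54),
   (87,1,55),
   (88,1,56),
   (90,1,57),
   (91,1,58),
   (92,1,59),
   (96,1,60),
   (97,1,61),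
   (99,1,62)]

def sylTwoLev0 : ℕ × List (List ℕ) × List (ℕ × ℕ × ℕ) := (1, sylTwoGen0P0 ++ sylTwoGen0P1, sylTwoOrb0P0 ++ sylTwoOrb0P1)

def sylTwoGen1P0 : List (List ℕ) :=
  [[0,8,1]]

def sylTwoOrb1P0 : List (ℕ × ℕ × ℕ) :=
  [(64,8,0)]

def sylTwoLev1 : ℕ × List (List ℕ) × List (ℕ × ℕ × ℕ) := (8, sylTwoGen1P0, sylTwoOrb1P0)

def sylTwoGen2P0 : List (List ℕ) :=
  [[5,8]]

def sylTwoOrb2P0 : List (ℕ × ℕ × ℕ) :=
  [(32,0,0)]

def sylTwoLev2 : ℕ × List (List ℕ) × List (ℕ × ℕ × ℕ) := (0, sylTwoGen2P0, sylTwoOrb2P0)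

def sylTwoGen3P0 : List (List ℕ) :=
  [[0,4,2,4]]

def sylTwoOrb3P0 : List (ℕ × ℕ × ℕ) :=
  [(12,2,0)]

def sylTwoLev3 : ℕ × List (List ℕ) × List (ℕ × ℕ × ℕ) := (2, sylTwoGen3P0, sylTwoOrb3P0)

def sylTwoGen4P0 : List (List ℕ) :=
  [[2,2]]

def sylTwoOrb4P0 : List (ℕ × ℕ × ℕ) :=
  [(101,100,0)]

def sylTwoLev4 : ℕ × List (List ℕ) × List (ℕ × ℕ × ℕ) := (100, sylTwoGen4P0, sylTwoOrb4P0)

/-- A chain for the Sylow subgroup. -/
def sylTwo : List (ℕ × List (List ℕ) × List (ℕ × ℕ × ℕ)) := [sylTwoLev0, sylTwoLev1, sylTwoLev2, sylTwoLev3, sylTwoLev4]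

/-- The certificate. -/
def certThree : Cert where
  p := 3
  n := 2
  tails := [[[]],
    [[0,1], []]]
  overlaps := []
  fuse := [([[0,1,1], [0,0]], [[0,0,1,1], [0,0,1]], [([0,0,0],[]), ([1,0],[0,1]), ([1,1,1],[])])]
  delta := [[], []]
  sels := [[[(0,2)]],
    [[(1,1)], [(2,2)]]]

/-- The words of the generators. -/
def pcwThree : List (List ℕ) := [[4,5,4,0,5,6,2,1,6,0,4,1,5,3],
  [5,6,2,1,5,4,0,1,2,6,5,1,4,1]]

/-- The words of the conjugators. -/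
def fwThree : List (List ℕ) := [[0,5,6,2,3,6,2,4,5,0,4,0,5]]

def sylThreeGen0P0 : List (List ℕ) :=
  [[0],
   [0,0]]

def sylThreeOrb0P0 : List (ℕ × ℕ × ℕ) :=
  [(50,6,0),
   (95,6,1)]

def sylThreeLev0 : ℕ × List (List ℕ) × List (ℕ × ℕ × ℕ) := (6, sylThreeGen0P0, sylThreeOrb0P0)

def sylThreeGen1P0 : List (List ℕ) :=
  [[1,1],
   [1]]

def sylThreeOrb1P0 : List (ℕ × ℕ × ℕ) :=
  [(54,0,0),
   (75,0,1)]

def sylThreeLev1 : ℕ × List (List ℕ) × List (ℕ × ℕ × ℕ) := (0, sylThreeGen1P0, sylThreeOrb1P0)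

/-- A chain for the Sylow subgroup. -/
def sylThree : List (ℕ × List (List ℕ) × List (ℕ × ℕ × ℕ)) := [sylThreeLev0, sylThreeLev1]

/-- The certificate. -/
def certFive : Cert where
  p := 5
  n := 3
  tails := [[[]],
    [[0,1,1,2,2], []],
    [[0,1,1], [1,2], []]]
  overlaps := [([1,1,1,1,1,0],4)]
  fuse := [([[1,1,2,2], [0,0,0,0,1,1,2,2], [0,0,0,1,1,1,1,2,2,2,2]], [[0,1], [0,0,1,1,2], [0,0,0,0,1,1,1,1,2,2]], [([0,0,0,0,0],[]), ([1,0],[0,1,1,1,1,2]), ([1,1,1,1,1],[]), ([2,0],[0,1,2,2,2]), ([2,1],[1,2])])]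
  delta := [[], [], [(3,3)]]
  sels := [[[(0,2), (1,4)]],
    [[], [(1,1), (3,3)]],
    [[(0,3), (1,2), (2,3), (4,1), (5,3)], [(0,2), (5,1)], [(0,2), (1,2), (3,1)]]]

/-- The words of the generators. -/
def pcwFive : List (List ℕ) := [[2,6,1,4,5,4,6,1,0,1,6,3,1,4,0],
  [5,0,1,3,6,2,3,0,5,4,1,6,5,4,1,0],
  [0,4,0,5,6,2,3,4,5,0,1,6,4,2,3,2]]

/-- The words of the conjugators. -/
def fwFive : List (List ℕ) := [[3,1,6,2,6,1,0,4,1,6,5,2,0]]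

def sylFiveGen0P0 : List (List ℕ) :=
  [[0,0,2],
   [0,1],
   [1,2],
   [1,2,0],
   [2,0],
   [2,0,0,0],
   [0,0,2,0],
   [0,1,2],
   [1,1,0],
   [2,0,2],
   [0,1,0],
   [1,0],
   [0,0],
   [0,2],
   [1],
   [1,1,1],
   [1,1],
   [2,0,1],
   [1,0,1],
   [0],
   [0,2,2],
   [2,0,0],
   [2],
   [1,0,0]]

def sylFiveOrb0P0 : List (ℕ × ℕ × ℕ) :=
  [(13,0,0),
   (17,0,1),
   (26,0,2),
   (30,0,3),
   (31,0,4),
   (38,0,5),
   (44,0,6),
   (45,0,7),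
   (53,0,8),
   (63,0,9),
   (65,0,10),
   (66,0,11),
   (68,0,12),
   (69,0,13),
   (74,0,14),
   (77,0,15),
   (80,0,16),
   (82,0,17),
   (87,0,18),
   (88,0,19),
   (89,0,20),
   (95,0,21),
   (96,0,22),
   (97,0,23)]

def sylFiveLev0 : ℕ × List (List ℕ) × List (ℕ × ℕ × ℕ) := (0, sylFiveGen0P0, sylFiveOrb0P0)

def sylFiveGen1P0 : List (List ℕ) :=
  [[0,0,2,0,2,0],
   [1,1,0,0],
   [0,0,2,0,1],
   [0,2,2,2]]

def sylFiveOrb1P0 : List (ℕ × ℕ × ℕ) :=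
  [(4,1,0),
   (5,1,1),
   (10,1,2),
   (20,1,3)]

def sylFiveLev1 : ℕ × List (List ℕ) × List (ℕ × ℕ × ℕ) := (1, sylFiveGen1P0, sylFiveOrb1P0)

/-- A chain for the Sylow subgroup. -/
def sylFive : List (ℕ × List (List ℕ) × List (ℕ × ℕ × ℕ)) := [sylFiveLev0, sylFiveLev1]

end Cfsg.Lib.HSModel.Cov
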