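import Cfsg.Agent.CosetCert.Basic

/-!
Generated coset enumeration certificate: index 10, letters ab, subgroup .
-/

set_option autoImplicit false

namespace Cfsg.Lib.HSModel.CovL2

open Cfsg.Lib.CosetCert

def edgeTL0 : ℕ :=
  0x1000008000009000000900000700000080000061000007000005100000600000400000050000030000004000002100000300000110000020000000000001000000

def edgeT : BT :=
  .leaf edgeTL0

def parTL0 : ℕ :=
  0x8000007000006000005000004000003000002000001000000000000

def parT : BT :=
  .leaf parTL0

def rotTL0 : ℕ :=
  0x1212121212

def rotT : BT :=
  .leaf rotTL0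

def finsTL0 : ℕ :=
  0x9000008000007000006000005000004000003000002000001000000

def finsT : BT :=
  .leaf finsTL0

def tabTL0 : ℕ :=
  0x800001200000700001100000900001300000600000f00000500000d00000900001000000400000b00000800000e00000700000c00000300000900000600000a000002000007000001000005000005000008000000000003000004000006000003000004000000000001000002000002000001000000

def tabT : BT :=
  .leaf tabTL0

def cert : Cert where
  ng := 2
  depth := 0
  edges := edgeT
  pars := parT
  subs := []
  rots := rotT
  m := 10
  finT := finsT
  tab := tabT

def rels : List (List ℕ) :=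
  [[0,0],
   [1,1],
   [0,1,0,1,0,1,0,1,0,1]]

def spec : List (ℕ × ℕ × Bool) :=
  [(2,0,false)]

def steps0 : List (ℕ × ℕ) :=
  [(0,0x0),
   (0,0x0),
   (0,0x0),
   (0,0x0),
   (0,0x0),
   (0,0x0),
   (0,0x0),
   (0,0x0),
   (0,0x0),
   (2,0xf00000b00000700000300000200000600000a00000e000012)]

end Cfsg.Lib.HSModel.CovL2
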