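import Cfsg.Agent.CosetCert.Basic

/-!
Generated coset enumeration certificate: index 6, letters abc, subgroup ab.
-/

set_option autoImplicit false

namespace Cfsg.Lib.HSModel.CovL3

open Cfsg.Lib.CosetCert

def edgeTL0 : ℕ :=
  0x20000050000053000005000008100000a00000a300000700000b300000a00000c000000b00000c200000b00000c100000c00000a100000b00000800000010000013000001000002300000300000430000050000063000007000009200000700000a000000a000007100000900000620000080000051000007000005000000600000400000050000031000004000002200000300000310000030000010000002000001200000100000010000000000000000000000000

def edgeT : BT :=
  .leaf edgeTL0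

def parTL0 : ℕ :=
  0x1400001300000c00000b00000a000009000008000007000006000004000003000002000000

def parT : BT :=
  .leaf parTL0

def rotTL0 : ℕ :=
  0x330000000000000000000000000000000000000000000000000000000000000000000000000000000000000123121231212132000000000000000000000000000000000000000000000000000000000000000000000000000000000000021213212312123100000000000000000000000000000000000000000000000000000000000000000000000000000000000000000000000000110000000000000000000000000000000000000000000000000000000000000000000000000000000000000000000000000022000000000000000000000000000000000000000000000000000000000000000000000000000000000000021213212132123100000000000000000000000000000000000000000000000000000000000000000000000000000000000001212312121321230000000000000000000000000000000000000000000000000000000000000000000000000000000000000000000000232323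

def rotT : BT :=
  .leaf rotTL0

def finsTL0 : ℕ :=
  0xa000007000005000003000001000000

def finsT : BT :=
  .leaf finsTL0

def tabTL0 : ℕ :=
  0x400001a00000500003200000400001900000500001b00000300001300000500001800000300003600000400001200000200000f00000200000a00000100000900000300000e000000000005000002000008000001000024000001000004000000000002000000000000

def tabT : BT :=
  .leaf tabTL0

def cert : Cert where
  ng := 3
  depth := 0
  edges := edgeT
  pars := parT
  subs := [0,1]
  rots := rotT
  m := 6
  finT := finsT
  tab := tabT

def rels : List (List ℕ) :=
  [[0,0],
   [1,1],
   [2,2],
   [1,2,1,2,1,2],
   [0,1,0,1,0,2,1,0,1,0,2,1,0,1,2]]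

def spec : List (ℕ × ℕ × Bool) :=
  [(3,0,false), (4,5,true), (4,1,false), (1,0,false), (0,0,false), (4,11,true), (4,2,true), (2,0,false)]

def steps0 : List (ℕ × ℕ) :=
  [(1,0x0),
   (1,0x0),
   (0,0x0),
   (0,0x0),
   (0,0x0),
   (2,0x900000500000300000600000a),
   (0,0x0),
   (0,0x0),
   (0,0x0),
   (0,0x0),
   (0,0x0),
   (0,0x0),
   (0,0x0),
   (3,0x1300000f00000900000500000100000300000100000300000100000600000a00001000001400001a),
   (4,0x1a00001c00001300000f00000900000500000200000400000200000400000600000800000e000012000018),
   (5,0x1400001d000017),
   (6,0x1000001f000011),
   (5,0xa00002100000d),
   (6,0x8000024),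
   (0,0x0),
   (0,0x0),
   (2,0x2700001500001400001b00002a),
   (7,0x2b00002900001900001300000f00000b00000900002500000a00000b00001000001400001a00002a),
   (8,0x2a00002c00002d00002900001900001300000f00000c00000900002600000a00001000001600002800002d),
   (6,0x1a00002f00002e),
   (5,0x2a000030),
   (5,0x14000031000027),
   (9,0x16000036)]

end Cfsg.Lib.HSModel.CovL3
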