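import Cfsg.Agent.CosetCert.Basic

/-!
Generated coset enumeration certificate: index 6, letters abcd, subgroup abc.
-/

set_option autoImplicit false

namespace Cfsg.Lib.HSModel.CovL4

open Cfsg.Lib.CosetCert

def edgeTL0 : ℕ :=
  0x2000004000004100000500000500000040000043000005000004000000300000520000050000021000004000002300000300000320000010000031000003000001300000200000200000020000013000001000000200000000000010000000000000000000000000

def edgeT : BT :=
  .leaf edgeTL0

def parTL0 : ℕ :=
  0xa000009000006000004000003000000

def parT : BT :=
  .leaf parTL0

def rotTL0 : ℕ :=
  0x142142142000000000000000000000000000000000000000000000000000000000000000000000000000000000000000000000041414100000000000000000000000000000000000000000000000000000000000000000000000000000000000000000002142142140000000000000000000000000000000000000000000000000000000000000000000000000000000000000000000000003131000000000000000000000000000000000000000000000000000000000000000000000000000000000000000000000024242400000000000000000000000000000000000000000000000000000000000000000000000000000000000000000000002432430000000000000000000000000000000000000000000000000000000000000000000000000000000000000000000000141414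

def rotT : BT :=
  .leaf rotTL0

def finsTL0 : ℕ :=
  0x5000004000003000002000001000000

def finsT : BT :=
  .leaf finsTL0

def tabTL0 : ℕ :=
  0x400001900000200001500000500001c00000300001600000500001800000400001e00000200001300000400001a00000300001000000100000e00000100000d00000500001700000200000a00000500001400000400001200000100000900000000000700000300000f00000300000c000002000008000001000006000000000004000000000002000000000000

def tabT : BT :=
  .leaf tabTL0

def cert : Cert where
  ng := 4
  depth := 0
  edges := edgeT
  pars := parT
  subs := [0,1,2]
  rots := rotT
  m := 6
  finT := finsT
  tab := tabT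

def rels : List (List ℕ) :=
  [[0,0],
   [1,1],
   [2,2],
   [3,3],
   [0,2,0,2],
   [0,3,0,3,0,3],
   [1,2,3,1,2,3],
   [1,3,1,3,1,3],
   [0,1,3,0,1,3,0,1,3]]

def spec : List (ℕ × ℕ × Bool) :=
  [(5,0,false), (6,2,true), (7,0,false), (4,1,false), (8,1,true), (5,1,false), (8,2,true)]

def steps0 : List (ℕ × ℕ) :=
  [(1,0x0),
   (1,0x0),
   (1,0x0),
   (0,0x0),
   (0,0x0),
   (2,0x900000700000100000800000a),
   (0,0x0),
   (3,0x700000300000500000800000e),
   (4,0xd00000700000300000800000e),
   (0,0x0),
   (0,0x0),
   (5,0x1000000a000016),
   (6,0x1800000d00000700000200000400000800000a000014),
   (7,0x1a000018000011000017000019),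
   (8,0x1900001b00001300000b00000900000e000011000017),
   (3,0x1a00001e00001500000c000014)]

end Cfsg.Lib.HSModel.CovL4
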