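import Cfsg.Agent.HSModel.CovData
import Cfsg.Agent.HSModel.CovCert
import Cfsg.Agent.HSModel.Checks
import Cfsg.Agent.HSModel.CovL2Data
import Cfsg.Agent.HSModel.CovL3Data
import Cfsg.Agent.HSModel.CovL4Data
import Cfsg.Agent.HSModel.CovL5Data
import Cfsg.Agent.HSModel.CovL6Data
import Cfsg.Agent.HSModel.CovL7Data
import Cfsg.Agent.CosetCert.Sift

/-!
Computations on the seven involutions of the double cover of the Higman-Sims group.
-/

set_option autoImplicit false
set_option maxRecDepth 100000
set_option Elab.async false

namespace Cfsg.Lib.HSModel.Cov

open Cfsg.Lib.PermCert Cfsg.Lib.CosetCert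

/-- A list of relators holds. -/
def relsHold (k : ℕ) (R : List (List ℕ)) : Bool :=
  R.all fun r => (r.all fun l => decide (l < k)) && trivWord 804 covTabs r

theorem valid804 : covTabs.all (valid 804) = true := by decide +kernel

theorem valid100 : covTabs.all (valid 100) = true := by decide +kernel

theorem covTabs_sq : ((List.range 7).all fun l => trivWord 804 covTabs [l, l]) = true := by decide +kernel

theorem rels2 : relsHold 2 CovL2.rels = true := by decide +kernel

theorem rels3 : relsHold 3 CovL3.rels = true := by decide +kernel

theorem rels4 : relsHold 4 CovL4.rels = true := by decide +kernel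

theorem rels5 : relsHold 5 CovL5.rels = true := by decide +kernel

theorem rels6 : relsHold 6 CovL6.rels = true := by decide +kernel

theorem rels7 : relsHold 7 CovL7.rels = true := by decide +kernel

theorem chain_ok : chainOK covTabs 804 7 (covChain.map SLev.lev) = true := by decide +kernel

theorem chain_idx : covChain.all (SLev.ok covTabs) = true := by decide +kernel

theorem chain100_ok : chainOK covTabs 100 7 ((covChain.take 6).map SLev.lev) = true := by decide +kernel

theorem chain_size : chainSize (covChain.map SLev.lev) = 88704000 ∧
    chainSize ((covChain.take 6).map SLev.lev) = 44352000 ∧ covTabs.length = 7 := by decide +kernel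

/-- A letter preserves the adjacency on 100 points. -/
def autOK (l : ℕ) : Bool :=
  (List.range 100).all fun x => (List.range 100).all fun y =>
    adjB (ap (covTabs.getD l (0, 0)).1 x) (ap (covTabs.getD l (0, 0)).1 y) == adjB x y

theorem aut_low : ([0, 1, 2, 3].all autOK) = true := by decide +kernel

theorem aut_high : ([4, 5, 6].all autOK) = true := by decide +kernel

theorem sign100 : ∀ l : Fin 7, Equiv.Perm.sign (perm 100 (covTabs.getD l.val (0, 0))) = 1 := by decide +kernel

theorem z_trivial : trivWord 100 covTabs zWord = true := by decide +kernel

/-- Two words have the same images of the base points. -/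
def sameC (w u : List ℕ) : Bool :=
  (w.all fun l => decide (l < 7)) && (u.all fun l => decide (l < 7)) &&
    covChain.all fun S => evalW covTabs w S.lev.b == evalW covTabs u S.lev.b

theorem z_facts : evalW covTabs zWord 100 ≠ 100 ∧ ((List.range 7).all fun l => sameC (zWord ++ [l]) ([l] ++ zWord)) = true ∧
    sameC (comA ++ comB ++ comA.reverse ++ comB.reverse) zWord = true ∧
    ncPair.1 < 7 ∧ ncPair.2 < 7 ∧
    (List.range 100).any (fun x => evalW covTabs [ncPair.1, ncPair.2] x != evalW covTabs [ncPair.2, ncPair.1] x) = true := by
  decide +kernel

/-- The word of a product of generators. -/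
def pcFlat (pcw : List (List ℕ)) (l : List ℕ) : List ℕ := l.flatMap fun k => pcw.getD k []

/-- The rules with a given first index. -/
def ruleC (c : Cfsg.Lib.Schur.Prime.Cert) (pcw : List (List ℕ)) (j : ℕ) : Bool :=
  (List.range (j + 1)).all fun i => sameC (pcFlat pcw (c.lhs j i)) (pcFlat pcw (c.tail j i))

/-- The conjugations. -/
def fusC (c : Cfsg.Lib.Schur.Prime.Cert) (pcw fw : List (List ℕ)) : Bool :=
  (List.range c.fuse.length).all fun f =>
    (List.range (c.fuse.getD f ([], [], [])).1.length).all fun k =>
      sameC (fw.getD f [] ++ pcFlat pcw ((c.fuse.getD f ([], [], [])).1.getD k []))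
        (pcFlat pcw ((c.fuse.getD f ([], [], [])).2.1.getD k []) ++ fw.getD f [])

/-- The chain of a Sylow subgroup as levels. -/
def levsOf (pcw : List (List ℕ)) (levels : List (ℕ × List (List ℕ) × List (ℕ × ℕ × ℕ))) : List Lev :=
  levels.map fun L => ⟨L.1, L.2.1.map (pcFlat pcw), L.2.2⟩

/-- The Sylow subgroup is large enough. -/
def countC (c : Cfsg.Lib.Schur.Prime.Cert) (pcw : List (List ℕ))
    (levels : List (ℕ × List (List ℕ) × List (ℕ × ℕ × ℕ))) : Bool :=
  (levels.all fun L => L.2.1.all fun l => l.all fun k => decide (k < c.n)) &&
    chainOK covTabs 804 7 (levsOf pcw levels) && decide (chainSize (levsOf pcw levels) = c.p ^ c.n)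

theorem certTwo_ok : certTwo.ok = true := by decide +kernel

theorem certThree_ok : certThree.ok = true := by decide +kernel

theorem certFive_ok : certFive.ok = true := by decide +kernel

theorem rulesTwo : ((List.range' 0 10).all fun j => ruleC certTwo pcwTwo j) = true := by decide +kernel

theorem rulesThree : ((List.range' 0 2).all fun j => ruleC certThree pcwThree j) = true := by decide +kernel

theorem rulesFive : ((List.range' 0 3).all fun j => ruleC certFive pcwFive j) = true := by decide +kernel

theorem fusTwo : fusC certTwo pcwTwo fwTwo = true := by decide +kernel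

theorem fusThree : fusC certThree pcwThree fwThree = true := by decide +kernel

theorem fusFive : fusC certFive pcwFive fwFive = true := by decide +kernel

theorem countTwo : countC certTwo pcwTwo sylTwo = true := by decide +kernel

theorem countThree : countC certThree pcwThree sylThree = true := by decide +kernel

theorem countFive : countC certFive pcwFive sylFive = true := by decide +kernel

end Cfsg.Lib.HSModel.Cov
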