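import Cfsg.Agent.HSModel.UThreeFiveChecks
import Cfsg.Agent.Known.PSUThreeFiveExists
import Cfsg.Agent.Leech.SixShell
import Cfsg.Agent.Leech.PairSimple
import Cfsg.Agent.Leech.Mult.Elem
import Cfsg.Agent.S0280

/-!
The Higman-Sims group on 352 vectors: a stabiliser is the simple unitary group in dimension three over 25 elements,
by comparing actions on fifty points.
-/

set_option autoImplicit false
set_option maxHeartbeats 1000000
set_option maxRecDepth 100000
set_option linter.style.haveILetI false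

namespace Cfsg.Lib.HSModel.UThreeFive

open Cfsg Cfsg.Lib.PermCert Cfsg.Lib.Leech Cfsg.Lib.Leech.Stab Cfsg.Lib.Golay MulAction
open Cfsg.Lib.Leech.Mult (el el_smul)
open Cfsg.Lib Cfsg.Lib.Classical Cfsg.Lib.Components.UnitaryThree

local instance finiteCo0Inst : Finite Co0 := finite_co0

/-! ### The two generated groups on fifty points -/

/-- A table of the generators. -/
def qP (l : ℕ) : Equiv.Perm (Fin 50) := perm 50 (qTabs.getD l (0, 0))

/-- A table of the transvections. -/
def tP (g : ℕ) : Equiv.Perm (Fin 50) := perm 50 (tTabs.getD g (0, 0))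

theorem qTab_valid {l : ℕ} (hl : l < 4) : valid 50 (qTabs.getD l (0, 0)) = true := by
  rw [List.getD_eq_getElem _ _ (tabs_valid.2.2.2.2.1.symm ▸ hl)]
  exact List.all_eq_true.1 tabs_valid.1 _ (List.getElem_mem _)

theorem tTab_valid {g : ℕ} (hg : g < 6) : valid 50 (tTabs.getD g (0, 0)) = true := by
  rw [List.getD_eq_getElem _ _ (tabs_valid.2.2.2.2.2.symm ▸ hg)]
  exact List.all_eq_true.1 tabs_valid.2.1 _ (List.getElem_mem _)

/-- The group of the two elements. -/
def gA : Subgroup (Equiv.Perm (Fin 50)) := Subgroup.closure (qP '' Set.Iio 2)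

/-- The group of the transvections. -/
def gB : Subgroup (Equiv.Perm (Fin 50)) := Subgroup.closure (tP '' Set.Iio 6)

theorem qP_mem {l : ℕ} (hl : l < 4) : qP l ∈ gA := by
  have h0 : qP 0 ∈ gA := Subgroup.subset_closure ⟨0, Set.mem_Iio.2 (by norm_num), rfl⟩
  have h1 : qP 1 ∈ gA := Subgroup.subset_closure ⟨1, Set.mem_Iio.2 (by norm_num), rfl⟩
  interval_cases l
  · exact h0
  · exact h1
  · rw [qP, tabs_valid.2.2.1, perm_pinv (qTab_valid (by norm_num))]; exact inv_mem h0
  · rw [qP, tabs_valid.2.2.2.1, perm_pinv (qTab_valid (by norm_num))]; exact inv_mem h1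

theorem word_mem {tabs : List PP} {w : List ℕ} {t : PP} {S : Subgroup (Equiv.Perm (Fin 50))}
    (hv : ∀ l < tabs.length, valid 50 (tabs.getD l (0, 0)) = true)
    (hS : ∀ l < tabs.length, perm 50 (tabs.getD l (0, 0)) ∈ S) (ht : valid 50 t = true)
    (h : wordIs tabs w t = true) : perm 50 t ∈ S := by
  simp only [wordIs, Bool.and_eq_true, List.all_eq_true, decide_eq_true_eq, List.mem_range, beq_iff_eq] at h
  have e : wperm 50 (w.map fun l => tabs.getD l (0, 0)) = perm 50 t := Equiv.ext fun x => Fin.ext (by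
    rw [wperm_apply (fun g hg => by
      obtain ⟨l, hl, rfl⟩ := List.mem_map.1 hg
      exact hv l (h.1 l hl)), perm_apply ht]
    exact h.2 x.val x.isLt)
  rw [← e, wperm, List.map_map]
  refine Subgroup.list_prod_mem _ fun z hz => ?_
  obtain ⟨l, hl, rfl⟩ := List.mem_map.1 hz
  exact hS l (h.1 l hl)

theorem gA_eq : gA = gB := by
  refine le_antisymm ((Subgroup.closure_le _).2 ?_) ((Subgroup.closure_le _).2 ?_)
  · rintro _ ⟨l, hl, rfl⟩
    have hl' : l < 4 := lt_trans hl (by norm_num)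
    exact word_mem (fun g hg => tTab_valid (tabs_valid.2.2.2.2.2 ▸ hg))
      (fun g hg => Subgroup.subset_closure ⟨g, tabs_valid.2.2.2.2.2 ▸ hg, rfl⟩) (qTab_valid hl')
      (List.all_eq_true.1 words_ok.1 l (List.mem_range.2 hl))
  · rintro _ ⟨g, hg, rfl⟩
    exact word_mem (fun l hl => qTab_valid (tabs_valid.2.2.2.2.1 ▸ hl))
      (fun l hl => qP_mem (tabs_valid.2.2.2.2.1 ▸ hl)) (tTab_valid hg)
      (List.all_eq_true.1 words_ok.2.1 g (List.mem_range.2 hg))

/-! ### The unitary side -/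

section
variable {F : Type} [Field F] [Fintype F] (hF : Fintype.card F = 5 ^ 2)

/-- A set by its new number. -/
def TT (i : Fin 50) : Set (Fin 3 → F) := Known.UThreeFive.T hF (lab i.val)

theorem lab_facts (i : Fin 50) : lab i.val < 50 ∧
    ∀ g < 6, (Known.UThreeFive.Cert.setImg.getD g []).getD (lab i.val) 0 = lab (ap (tTabs.getD g (0, 0)).1 i.val) := by
  have h := List.all_eq_true.1 lab_ok i.val (List.mem_range.2 i.isLt)
  simp only [Bool.and_eq_true, decide_eq_true_eq, List.all_eq_true, List.mem_range, beq_iff_eq] at h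
  exact ⟨h.1.1, h.2⟩

theorem T_inj {j k : ℕ} (hj : j < 50) (hkj : k < j) (h : Known.UThreeFive.T hF j = Known.UThreeFive.T hF k) : False := by
  have hsep := List.all_eq_true.1 (List.all_eq_true.1 sets_sep j (List.mem_range.2 hj)) k (List.mem_range.2 hkj)
  simp only [setSep, List.any_eq_true, List.mem_range, Bool.and_eq_true, Bool.not_eq_true'] at hsep
  obtain ⟨i, hi, hb, hnb⟩ := hsep
  have hmem : Known.UThreeFive.vec hF i ∈ Known.UThreeFive.T hF j := ⟨i, hi, hb, 1, one_ne_zero, (one_smul _ _).symm⟩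
  rw [h] at hmem
  obtain ⟨i', hi', hb', t, -, e⟩ := hmem
  have hkey := Known.UThreeFive.key_of_smul hF hi hi' e
  have hcode : ∀ a : ℕ, a < 651 → Known.UThreeFive.Cert.key a =
      Known.UThreeFive.Cert.coord a 0 + 32 * Known.UThreeFive.Cert.coord a 1 + 1024 * Known.UThreeFive.Cert.coord a 2 := fun a ha =>
    Nat.eq_of_beq_eq_true (List.all_eq_true.1 Known.UThreeFive.Cert.key_eq a (List.mem_range.2 ha))
  have hmono : ∀ a b : ℕ, a < b → b < 651 →
      625 * Known.UThreeFive.Cert.coord a 0 + 25 * Known.UThreeFive.Cert.coord a 1 + Known.UThreeFive.Cert.coord a 2 <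
        625 * Known.UThreeFive.Cert.coord b 0 + 25 * Known.UThreeFive.Cert.coord b 1 + Known.UThreeFive.Cert.coord b 2 := by
    intro a b hab
    induction hab with
    | refl => exact fun hb => Nat.le_of_ble_eq_true (List.all_eq_true.1 keys_incr a (List.mem_range.2 (by omega)))
    | step hle ih =>
      rename_i m
      intro hb
      exact lt_trans (ih (by omega)) (Nat.le_of_ble_eq_true (List.all_eq_true.1 keys_incr m (List.mem_range.2 (by omega))))
  have hne : i ≠ i' := fun e => by rw [e, hb'] at hnb; exact Bool.noConfusion hnb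
  rw [hcode i hi, hcode i' hi'] at hkey
  have := Known.UThreeFive.coord_lt hi (show 0 < 3 by norm_num)
  have := Known.UThreeFive.coord_lt hi (show 1 < 3 by norm_num)
  have := Known.UThreeFive.coord_lt hi' (show 0 < 3 by norm_num)
  have := Known.UThreeFive.coord_lt hi' (show 1 < 3 by norm_num)
  rcases Nat.lt_or_gt_of_ne hne with h' | h'
  · have := hmono i i' h' hi'; omega
  · have := hmono i' i h' hi; omega

theorem TT_inj : Function.Injective (TT hF) := by
  intro a b h
  by_contra hne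
  have hl : lab a.val ≠ lab b.val := fun e => by
    rcases Nat.lt_or_gt_of_ne (fun h' => hne (Fin.ext h')) with h' | h'
    · have := List.all_eq_true.1 lab_ok b.val (List.mem_range.2 b.isLt)
      simp only [Bool.and_eq_true] at this
      exact bne_iff_ne.1 (List.all_eq_true.1 this.1.2 a.val (List.mem_range.2 h')) e.symm
    · have := List.all_eq_true.1 lab_ok a.val (List.mem_range.2 a.isLt)
      simp only [Bool.and_eq_true] at this
      exact bne_iff_ne.1 (List.all_eq_true.1 this.1.2 b.val (List.mem_range.2 h')) e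
  rcases Nat.lt_or_gt_of_ne hl with h' | h'
  · exact T_inj hF (lab_facts b).1 h' h.symm
  · exact T_inj hF (lab_facts a).1 h' h

theorem gT_TT (g : Fin 6) (i : Fin 50) : (Known.UThreeFive.gT hF g).1.1 '' TT hF i = TT hF (tP g.val i) := by
  rw [TT, Known.UThreeFive.gT_image hF g (lab_facts i).1, TT, tP, perm_apply (tTab_valid g.isLt)]
  exact congrArg _ ((lab_facts i).2 g.val g.isLt)

/-- Isometries permuting the sets. -/
def restT : Subgroup (Known.UThreeFive.HS hF).SIsom where
  carrier := {g | ∃ q : Equiv.Perm (Fin 50), ∀ i, g.1.1 '' TT hF i = TT hF (q i)}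
  one_mem' := ⟨1, fun _ => Set.image_id _⟩
  mul_mem' := by
    rintro g h ⟨q, hq⟩ ⟨r, hr⟩
    refine ⟨q * r, fun i => ?_⟩
    calc (g * h).1.1 '' TT hF i = g.1.1 '' (h.1.1 '' TT hF i) := by rw [Set.image_image]; rfl
      _ = _ := by rw [hr, hq]; rfl
  inv_mem' := by
    rintro g ⟨q, hq⟩
    refine ⟨q⁻¹, fun i => ?_⟩
    have h := hq (q⁻¹ i)
    rw [show q (q⁻¹ i) = i from q.apply_symm_apply i] at h
    conv_lhs => rw [← h]
    rw [Set.image_image]
    exact (Set.image_congr fun x _ => (Known.UThreeFive.HS hF).inv_apply_self g.1 x).trans (Set.image_id _)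

theorem restT_top : restT hF = ⊤ := by
  rw [eq_top_iff, ← Known.UThreeFive.KG_eq_top hF]
  refine (Subgroup.closure_le _).2 ?_
  rintro _ ⟨g, rfl⟩
  exact ⟨tP g.val, gT_TT hF g⟩

theorem rest_mem (g : (Known.UThreeFive.HS hF).SIsom) : g ∈ restT hF := restT_top hF ▸ Subgroup.mem_top g

/-- The action on the sets. -/
noncomputable def tau : (Known.UThreeFive.HS hF).SIsom →* Equiv.Perm (Fin 50) :=
  MonoidHom.mk' (fun g => (rest_mem hF g).choose) fun g h => Equiv.ext fun i => TT_inj hF (by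
    rw [← (rest_mem hF (g * h)).choose_spec i, Equiv.Perm.mul_apply, ← (rest_mem hF g).choose_spec,
      ← (rest_mem hF h).choose_spec, Set.image_image]
    rfl)

theorem tau_spec (g : (Known.UThreeFive.HS hF).SIsom) (i : Fin 50) : g.1.1 '' TT hF i = TT hF (tau hF g i) :=
  (rest_mem hF g).choose_spec i

theorem tau_gen (g : Fin 6) : tau hF (Known.UThreeFive.gT hF g) = tP g.val :=
  Equiv.ext fun i => TT_inj hF ((tau_spec hF _ i).symm.trans (gT_TT hF g i))

theorem tau_range : (tau hF).range = gB := by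
  rw [MonoidHom.range_eq_map, ← Known.UThreeFive.KG_eq_top hF, Known.UThreeFive.KG, MonoidHom.map_closure, gB]
  congr 1
  ext p
  constructor
  · rintro ⟨_, ⟨g, rfl⟩, rfl⟩
    exact ⟨g.val, g.isLt, (tau_gen hF g).symm⟩
  · rintro ⟨g, hg, rfl⟩
    exact ⟨_, ⟨⟨g, hg⟩, rfl⟩, tau_gen hF ⟨g, hg⟩⟩

theorem center_le_ker : Subgroup.center (Known.UThreeFive.HS hF).SIsom ≤ (tau hF).ker := by
  intro g hg
  obtain ⟨a, ha⟩ : ∃ a : F, ∀ x, g.1.1 x = a • x := by
    obtain ⟨a, -, -, hx⟩ := ((Known.UThreeFive.HS hF).mem_center_SIsom_iff (by rw [Known.UThreeFive.hd]; norm_num)).1 hg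
    exact ⟨a, hx⟩
  have ha0 : a ≠ 0 := fun e => (Known.UThreeFive.HS hF).isom_ne_zero g.1 (x := fun _ : Fin 3 => (1 : F))
    (fun h => one_ne_zero (congrFun h 0)) (by rw [ha, e, zero_smul])
  refine Equiv.ext fun i => TT_inj hF ?_
  rw [← tau_spec]
  refine Set.Subset.antisymm ?_ ?_
  · rintro _ ⟨x, ⟨j, hj, hb, t, ht, rfl⟩, rfl⟩
    exact ⟨j, hj, hb, a * t, mul_ne_zero ha0 ht, by rw [ha, smul_smul]⟩
  · rintro x ⟨j, hj, hb, t, ht, rfl⟩
    exact ⟨(a⁻¹ * t) • Known.UThreeFive.vec hF j, ⟨j, hj, hb, _, mul_ne_zero (inv_ne_zero ha0) ht, rfl⟩,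
      by rw [ha, smul_smul, ← mul_assoc, mul_inv_cancel₀ ha0, one_mul]⟩

include hF in
theorem gB_equiv : Nonempty (gB ≃* Cfsg.PSU 3 F 5) ∧ Nat.card gB = 126000 := by
  have hq : 3 ≤ (Known.UThreeFive.HS hF).q := by rw [stdHerm_q]; norm_num
  haveI := (Known.UThreeFive.HS hF).isSimpleGroup_SIsom_quotient (Or.inr ⟨Known.UThreeFive.hd, hq⟩)
  set ψ := QuotientGroup.lift (Subgroup.center (Known.UThreeFive.HS hF).SIsom) (tau hF) (center_le_ker hF)
  have hinj : Function.Injective ψ := by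
    rcases (inferInstance : ψ.ker.Normal).eq_bot_or_eq_top with h | h
    · exact (MonoidHom.ker_eq_bot_iff _).1 h
    · exfalso
      obtain ⟨x, hx, hmv⟩ := List.any_eq_true.1 words_ok.2.2
      have e : ψ (QuotientGroup.mk (Known.UThreeFive.gT hF 0)) = 1 := MonoidHom.mem_ker.1 (h ▸ Subgroup.mem_top _)
      rw [QuotientGroup.lift_mk, tau_gen] at e
      refine bne_iff_ne.1 hmv ?_
      have e' := congrArg (fun p : Equiv.Perm (Fin 50) => (p ⟨x, List.mem_range.1 hx⟩).val) e
      simp only [tP, Equiv.Perm.one_apply] at e'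
      rwa [perm_apply (tTab_valid (show ((0 : Fin 6) : ℕ) < 6 by norm_num))] at e'
  have hrange : ψ.range = gB := by
    rw [← tau_range hF]
    ext p
    constructor
    · rintro ⟨z, rfl⟩
      obtain ⟨g, rfl⟩ := QuotientGroup.mk_surjective z
      exact ⟨g, rfl⟩
    · rintro ⟨g, rfl⟩
      exact ⟨QuotientGroup.mk g, rfl⟩
  let e : gB ≃* Cfsg.PSU 3 F 5 :=
    ((MulEquiv.subgroupCongr hrange.symm).trans (MonoidHom.ofInjective hinj).symm).trans
      (centerQuotCongr (suEquiv 3 hF))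
  refine ⟨⟨e⟩, ?_⟩
  rw [Nat.card_congr e.toEquiv]
  have h := Cfsg.Agent.S0280.result (F := F) (q := 5) hF 3 (by norm_num)
  simp only [Finset.prod_range_succ, Finset.prod_range_zero] at h
  norm_num [Nat.even_iff] at h
  linarith

end

/-! ### The lattice side -/

theorem skey_short (i : Fin 50) : Short (skey i.val) := by
  have h := List.all_eq_true.1 keys_ok i.val (List.mem_range.2 i.isLt)
  simp only [Bool.and_eq_true, decide_eq_true_eq] at h
  exact ⟨mem_of_inL h.1.1.1, h.1.1.2.le.trans (by norm_num)⟩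

/-- One of the fifty vectors. -/
noncomputable def svec (i : Fin 50) : leechLattice := ⟨dec (skey i.val), (skey_short i).1⟩

theorem svec_inj : Function.Injective svec := by
  intro i j h
  have hb : ∀ i : Fin 50, skey i.val < 2 ^ 120 := fun i => by
    have h := List.all_eq_true.1 keys_ok i.val (List.mem_range.2 i.isLt)
    simp only [Bool.and_eq_true] at h
    exact Nat.le_of_ble_eq_true h.1.2
  have e := key_ext (hb i) (hb j) (congrArg Subtype.val h)
  by_contra hne
  have key : ∀ a b : Fin 50, b.val < a.val → skey a.val = skey b.val → False := fun a b hlt e => by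
    have h := List.all_eq_true.1 keys_ok a.val (List.mem_range.2 a.isLt)
    simp only [Bool.and_eq_true] at h
    exact bne_iff_ne.1 (List.all_eq_true.1 h.2 b.val (List.mem_range.2 hlt)) e
  rcases lt_trichotomy i.val j.val with h1 | h1 | h1
  · exact key j i h1 e.symm
  · exact hne (Fin.ext h1)
  · exact key i j h1 e

theorem short_root : Short treeHS352Root :=
  ⟨mem_of_inL (by decide +kernel), by decide +kernel⟩

/-- The root vector. -/
noncomputable def rt : leechLattice := ⟨dec treeHS352Root, short_root.1⟩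

/-- The 352 vectors of the base configuration. -/
def cls : Set leechLattice :=
  {y | Cfsg.sqNorm (y : GolayPt → ℤ) = 32 ∧ dotInt vD (y : GolayPt → ℤ) = -16 ∧ dotInt (bQ : GolayPt → ℤ) y = 8}

theorem cls_card : cls.ncard = 352 := by
  have h : countTri (fun t => dD t == -16 && dQ t == 8) = 352 := by decide +kernel
  rw [← h, ← census2Q fun a => a.1 == -16 && a.2 == 8]
  congr 1
  ext y
  simp [cls, dec_kD, dec_kQ]

theorem rt_mem : rt ∈ cls := by
  show Cfsg.sqNorm (dec treeHS352Root) = 32 ∧ dotInt vD (dec treeHS352Root) = -16 ∧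
    dotInt (bQ : GolayPt → ℤ) (dec treeHS352Root) = 8
  decide +kernel

/-- The stabiliser of the base pair. -/
abbrev pairStab : Subgroup Co0 := stabilizer Co0 bD ⊓ stabilizer Co0 bQ

/-- The stabiliser of the base triple. -/
noncomputable abbrev triStab : Subgroup Co0 := pairStab ⊓ stabilizer Co0 rt

theorem cls_inv {k : Co0} (h1 : k • bD = bD) (h2 : k • bQ = bQ) {y : leechLattice} (hy : y ∈ cls) : k • y ∈ cls := by
  have e1 := dot_smul k bD y
  have e2 := dot_smul k bQ y
  rw [h1] at e1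
  rw [h2] at e2
  obtain ⟨a, b, d⟩ := hy
  exact ⟨(norm_smul' k y).trans a, e1.trans b, e2.trans d⟩

theorem cls_trans {y y' : leechLattice} (hy : y ∈ cls) (hy' : y' ∈ cls) :
    ∃ k ∈ pairStab, k • y = y' := by
  obtain ⟨k, hk, e⟩ := orbit_eq (fixed := [kD, kQ])
    (by simp only [List.mem_cons, List.not_mem_nil, or_false]; rintro B (rfl | rfl); exacts [short_base.1, short_base.2.2.1])
    short_root treeHS352_ok cls (minSet_finite.subset fun y hy => hy.1) cls_card rt_mem
    (fun k hk z hz => cls_inv (hk kD (by simp) bD dec_kD.symm) (hk kQ (by simp) bQ dec_kQ.symm) hz) hy hy'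
  exact ⟨k, ⟨hk kD (by simp) bD dec_kD.symm, hk kQ (by simp) bQ dec_kQ.symm⟩, e⟩

/-- The second base vector of norm 48. -/
noncomputable def bW : leechLattice := bQ + -bD

theorem bW_ok : Cfsg.sqNorm (bW : GolayPt → ℤ) = 48 ∧ dotInt (bD : GolayPt → ℤ) bW = -32 := by
  show Cfsg.sqNorm ((bQ : GolayPt → ℤ) + -vD) = 48 ∧ dotInt vD ((bQ : GolayPt → ℤ) + -vD) = -32
  decide +kernel

theorem pair_eq : stabilizer Co0 bD ⊓ stabilizer Co0 bW = pairStab := by
  ext g
  show g • bD = bD ∧ g • (bQ + -bD) = bQ + -bD ↔ g • bD = bD ∧ g • bQ = bQ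
  rw [smul_add', smul_neg']
  exact ⟨fun h => ⟨h.1, by have e := h.2; rw [h.1] at e; exact add_right_cancel e⟩,
    fun h => ⟨h.1, by rw [h.1, h.2]⟩⟩

theorem card_triStab : Nat.card triStab = 126000 := by
  have hK : Nat.card pairStab = 44352000 := pair_eq ▸ card_HS_pair vD_ok.2.1 bW_ok.1 bW_ok.2
  have horb : MulAction.orbit pairStab rt = cls := by
    ext y
    constructor
    · rintro ⟨⟨k, hk⟩, rfl⟩
      exact cls_inv hk.1 hk.2 rt_mem
    · intro hy
      obtain ⟨k, hk, e⟩ := cls_trans rt_mem hy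
      exact ⟨⟨k, hk⟩, e⟩
  let f : MulAction.stabilizer pairStab rt ≃ triStab :=
    { toFun := fun g => ⟨g.1.1, g.1.2, g.2⟩
      invFun := fun g => ⟨⟨g.1, g.2.1⟩, g.2.2⟩
      left_inv := fun _ => rfl
      right_inv := fun _ => rfl }
  have h := Nat.card_congr (MulAction.orbitProdStabilizerEquivGroup pairStab rt)
  rw [Nat.card_prod, Nat.card_coe_set_eq, horb, cls_card, Nat.card_congr f, hK] at h
  exact Nat.eq_of_mul_eq_mul_left (show 0 < 352 by norm_num)
    (h.trans (show (44352000 : ℕ) = 352 * 126000 by norm_num))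

/-- A generator. -/
noncomputable def hgen (l : ℕ) : Co0 := el (atoms l)

theorem hgen_facts {l : ℕ} (hl : l < 2) :
    hgen l ∈ triStab ∧ ∀ i : Fin 50, hgen l • svec i = svec (qP l i) := by
  have h := List.all_eq_true.1 atoms_fix l (List.mem_range.2 hl)
  simp only [Bool.and_eq_true, beq_iff_eq] at h
  obtain ⟨⟨⟨hok, hD⟩, hQ⟩, hR⟩ := h
  have hfix : ∀ K, Short K → Leech.Stab.evalW (atoms l) K = K → ∀ (b : leechLattice), (b : GolayPt → ℤ) = dec K →
      hgen l • b = b := fun K hK e b hb => by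
    obtain ⟨h1, e1⟩ := el_smul hok hK
    obtain rfl : b = ⟨dec K, hK.1⟩ := Subtype.ext hb
    exact e1.trans (Subtype.ext (congrArg dec e))
  refine ⟨⟨⟨hfix kD short_base.1 hD bD dec_kD.symm, hfix kQ short_base.2.2.1 hQ bQ dec_kQ.symm⟩,
    hfix _ short_root hR rt rfl⟩, fun i => ?_⟩
  obtain ⟨h1, e1⟩ := el_smul hok (skey_short i)
  refine e1.trans (Subtype.ext (congrArg dec ?_))
  rw [beq_iff_eq.1 (List.all_eq_true.1 (List.all_eq_true.1 atoms_act l (List.mem_range.2 hl)) i.val
    (List.mem_range.2 i.isLt)), qP, perm_apply (qTab_valid (by omega))]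

/-- The group of the two elements. -/
noncomputable def gH : Subgroup Co0 := Subgroup.closure (hgen '' Set.Iio 2)

theorem gH_le : gH ≤ triStab := (Subgroup.closure_le _).2 (by
  rintro _ ⟨l, hl, rfl⟩
  exact (hgen_facts hl).1)

/-- Elements permuting the fifty vectors. -/
def restH : Subgroup Co0 where
  carrier := {g | ∃ q : Equiv.Perm (Fin 50), ∀ i, g • svec i = svec (q i)}
  one_mem' := ⟨1, fun i => one_smul _ _⟩
  mul_mem' := by
    rintro g h ⟨q, hq⟩ ⟨r, hr⟩
    exact ⟨q * r, fun x => by rw [mul_smul, hr, hq, Equiv.Perm.mul_apply]⟩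
  inv_mem' := by
    rintro g ⟨q, hq⟩
    refine ⟨q⁻¹, fun x => ?_⟩
    rw [inv_smul_eq_iff, hq, Equiv.Perm.coe_inv, Equiv.apply_symm_apply]

theorem gH_rest : gH ≤ restH := (Subgroup.closure_le _).2 (by
  rintro _ ⟨l, hl, rfl⟩
  exact ⟨qP l, (hgen_facts hl).2⟩)

/-- The action on the fifty vectors. -/
noncomputable def rho : gH →* Equiv.Perm (Fin 50) :=
  MonoidHom.mk' (fun g => (gH_rest g.2).choose) fun g h => Equiv.ext fun x => svec_inj (by
    rw [← (gH_rest (g * h).2).choose_spec x, Subgroup.coe_mul, mul_smul,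
      (gH_rest h.2).choose_spec x, (gH_rest g.2).choose_spec, Equiv.Perm.mul_apply])

theorem rho_gen {l : ℕ} (hl : l < 2) : rho ⟨hgen l, Subgroup.subset_closure ⟨l, hl, rfl⟩⟩ = qP l :=
  Equiv.ext fun x => svec_inj
    (((gH_rest (Subgroup.subset_closure ⟨l, hl, rfl⟩)).choose_spec x).symm.trans ((hgen_facts hl).2 x))

theorem triStab_equiv (F : Type) [Field F] [Fintype F] (hF : Fintype.card F = 25) :
    Nonempty (triStab ≃* Cfsg.PSU 3 F 5) := by
  obtain ⟨⟨e⟩, hB⟩ := gB_equiv (F := F) (show Fintype.card F = 5 ^ 2 by rw [hF]; norm_num)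
  have hle : gB ≤ rho.range := gA_eq ▸ (Subgroup.closure_le _).2 (by
    rintro _ ⟨l, hl, rfl⟩
    exact ⟨_, rho_gen hl⟩)
  have h0 := Subgroup.card_le_of_le hle
  have h1 : Nat.card rho.range ≤ Nat.card gH := Nat.card_le_card_of_surjective _ rho.rangeRestrict_surjective
  have h2 : Nat.card gH ≤ 126000 := card_triStab ▸ Subgroup.card_le_of_le gH_le
  have hr : gB = rho.range := Subgroup.eq_of_le_of_card_ge hle (by omega)
  have hH : gH = triStab := Subgroup.eq_of_le_of_card_ge gH_le (by rw [card_triStab]; omega)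
  have hinj : Function.Injective rho := by
    have hb : Function.Bijective rho.rangeRestrict :=
      (Nat.bijective_iff_surjective_and_card _).2 ⟨rho.rangeRestrict_surjective, by omega⟩
    exact fun a b h => hb.1 (Subtype.ext h)
  exact ⟨((MulEquiv.subgroupCongr hH.symm).trans (MonoidHom.ofInjective hinj)).trans
    ((MulEquiv.subgroupCongr hr.symm).trans e)⟩

theorem dot_neg_right (x y : GolayPt → ℤ) : dotInt x (-y) = -dotInt x y := by
  simp [dotInt, Finset.sum_neg_distrib]

theorem norm_neg (x : GolayPt → ℤ) : Cfsg.sqNorm (-x) = Cfsg.sqNorm x := by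
  simp [Cfsg.sqNorm]

theorem main (v w : leechLattice) (hv : Cfsg.sqNorm (v : GolayPt → ℤ) = 48)
    (hw : Cfsg.sqNorm (w : GolayPt → ℤ) = 48) (hvw : dotInt (v : GolayPt → ℤ) w = -32)
    (F : Type) [Field F] [Fintype F] (hF : Fintype.card F = 25) {S : Set leechLattice}
    (hS : ∀ x, x ∈ S ↔ Cfsg.sqNorm (x : GolayPt → ℤ) = 32 ∧ dotInt (v : GolayPt → ℤ) x = 16 ∧
      dotInt (w : GolayPt → ℤ) x = -24) :
    S.ncard = 352 ∧ (∀ x ∈ S, -w - x ∈ S) ∧
      (∀ x ∈ S, ∀ x' ∈ S, ∃ g : Co0, g • v = v ∧ g • w = w ∧ g • x = x') ∧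
      ∀ x ∈ S, Nonempty (↥(stabilizer Co0 v ⊓ stabilizer Co0 w ⊓ stabilizer Co0 x) ≃* Cfsg.PSU 3 F 5) := by
  obtain ⟨r, hr⟩ := transitive48 v bD hv vD_ok.2.1
  obtain ⟨s, hs1, hs2⟩ := Stab.pair48_transitive bD (r • w) bW vD_ok.2.1 ((norm_smul' r w).trans hw)
    (by rw [← hr, dot_smul, hvw]) bW_ok.1 bW_ok.2
  set c : Co0 := s * r
  have hcv : c • v = bD := by rw [mul_smul, hr, hs1]
  have hcw : c • w = bW := by rw [mul_smul, hs2]
  have hmem : ∀ x, x ∈ S ↔ -(c • x) ∈ cls := by
    intro x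
    have e1 := dot_smul c v x
    have e2 := dot_smul c w x
    rw [hcv] at e1
    rw [hcw] at e2
    change dotInt ((bQ : GolayPt → ℤ) + -vD) _ = _ at e2
    change dotInt vD _ = _ at e1
    rw [dot_add_left, show dotInt (-vD) ((c • x : leechLattice) : GolayPt → ℤ) =
      -dotInt vD ((c • x : leechLattice) : GolayPt → ℤ) by simp [dotInt, Finset.sum_neg_distrib]] at e2
    rw [hS]
    show _ ↔ Cfsg.sqNorm (-((c • x : leechLattice) : GolayPt → ℤ)) = 32 ∧
      dotInt vD (-((c • x : leechLattice) : GolayPt → ℤ)) = -16 ∧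
      dotInt (bQ : GolayPt → ℤ) (-((c • x : leechLattice) : GolayPt → ℤ)) = 8
    rw [norm_neg, norm_smul', dot_neg_right, dot_neg_right]
    omega
  have hcard : S.ncard = 352 := by
    rw [← cls_card]
    have e : cls = (fun x => -(c • x)) '' S := by
      ext y
      constructor
      · intro hy
        refine ⟨c⁻¹ • -y, (hmem _).2 ?_, ?_⟩
        · rwa [smul_inv_smul, neg_neg]
        · show -(c • (c⁻¹ • -y)) = y
          rw [smul_inv_smul, neg_neg]
      · rintro ⟨x, hx, rfl⟩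
        exact (hmem x).1 hx
    rw [e]
    exact (Set.ncard_image_of_injective _ fun a b h => MulAction.injective c (neg_injective h)).symm
  refine ⟨hcard, fun x hx => ?_, fun x hx x' hx' => ?_, fun x hx => ?_⟩
  · obtain ⟨h1, h2, h3⟩ := (hS x).1 hx
    rw [hS]
    show Cfsg.sqNorm (-(w : GolayPt → ℤ) - (x : GolayPt → ℤ)) = 32 ∧
      dotInt (v : GolayPt → ℤ) (-(w : GolayPt → ℤ) - (x : GolayPt → ℤ)) = 16 ∧
      dotInt (w : GolayPt → ℤ) (-(w : GolayPt → ℤ) - (x : GolayPt → ℤ)) = -24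
    refine ⟨?_, ?_, ?_⟩
    · rw [sqNorm_eq_dot]
      have e : dotInt (-(w : GolayPt → ℤ) - (x : GolayPt → ℤ)) (-(w : GolayPt → ℤ) - (x : GolayPt → ℤ)) =
          dotInt (w : GolayPt → ℤ) w + 2 * dotInt (w : GolayPt → ℤ) x + dotInt (x : GolayPt → ℤ) x := by
        simp only [dotInt, Pi.sub_apply, Pi.neg_apply, Finset.mul_sum, ← Finset.sum_add_distrib]
        exact Finset.sum_congr rfl fun p _ => by ring
      rw [e, ← sqNorm_eq_dot, ← sqNorm_eq_dot, hw, h1, h3]
      norm_num
    · rw [dot_sub_right, dot_neg_right, hvw, h2]; norm_num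
    · rw [dot_sub_right, dot_neg_right, ← sqNorm_eq_dot, hw, h3]; norm_num
  · obtain ⟨k, ⟨hk1, hk2⟩, e⟩ := cls_trans ((hmem x).1 hx) ((hmem x').1 hx')
    have hk2' : k • bW = bW := (pair_eq.symm ▸ (⟨hk1, hk2⟩ : k ∈ pairStab) : k ∈ stabilizer Co0 bD ⊓ stabilizer Co0 bW).2
    refine ⟨c⁻¹ * k * c, ?_, ?_, ?_⟩
    · rw [mul_smul, mul_smul, hcv, show k • bD = bD from hk1, ← hcv, inv_smul_smul]
    · rw [mul_smul, mul_smul, hcw, hk2', ← hcw, inv_smul_smul]
    · rw [smul_neg', neg_inj] at e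
      rw [mul_smul, mul_smul, e, inv_smul_smul]
  · obtain ⟨k, hk, e⟩ := cls_trans ((hmem x).1 hx) rt_mem
    set d : Co0 := k * c
    have hk2' : k • bW = bW := (pair_eq.symm ▸ hk : k ∈ stabilizer Co0 bD ⊓ stabilizer Co0 bW).2
    have h1 : d • v = bD := by rw [mul_smul, hcv, show k • bD = bD from hk.1]
    have h2 : d • w = bW := by rw [mul_smul, hcw, hk2']
    have h3 : d • x = -rt := by rw [mul_smul, ← e, smul_neg', neg_neg]
    have hconj : ∀ (h : Co0) (z : leechLattice), (d * h * d⁻¹) • (d • z) = d • z ↔ h • z = z := fun h z => by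
      rw [← mul_smul, inv_mul_cancel_right, mul_smul, smul_left_cancel_iff]
    have key : ∀ h : Co0, d * h * d⁻¹ ∈ triStab ↔ h ∈ stabilizer Co0 v ⊓ stabilizer Co0 w ⊓ stabilizer Co0 x := by
      intro h
      show d * h * d⁻¹ ∈ pairStab ⊓ stabilizer Co0 rt ↔ _
      rw [← pair_eq]
      show ((d * h * d⁻¹) • bD = bD ∧ (d * h * d⁻¹) • bW = bW) ∧ (d * h * d⁻¹) • rt = rt ↔
        (h • v = v ∧ h • w = w) ∧ h • x = x
      rw [show (d * h * d⁻¹) • rt = rt ↔ (d * h * d⁻¹) • (-rt) = -rt by rw [smul_neg', neg_inj],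
        ← h1, ← h2, ← h3, hconj, hconj, hconj]
    obtain ⟨eT⟩ := triStab_equiv F hF
    have hmap : (stabilizer Co0 v ⊓ stabilizer Co0 w ⊓ stabilizer Co0 x).map (MulAut.conj d).toMonoidHom = triStab := by
      ext g
      rw [Subgroup.mem_map_equiv, ← key]
      show d * (d⁻¹ * g * d) * d⁻¹ ∈ triStab ↔ _
      rw [show d * (d⁻¹ * g * d) * d⁻¹ = g by group]
    exact ⟨(((MulAut.conj d).subgroupMap _).trans (MulEquiv.subgroupCongr hmap)).trans eT⟩

end Cfsg.Lib.HSModel.UThreeFive
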