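import Cfsg.Agent.HSModel.UThreeFiveData
import Cfsg.Agent.Leech.Stab.DataHS352
import Cfsg.Agent.Leech.Stab.Configurations
import Cfsg.Agent.Known.PSUThreeFiveCert

/-!
Computations for a stabiliser in the Higman-Sims group and the unitary group in dimension three over 25 elements.
-/

set_option autoImplicit false
set_option maxRecDepth 100000
set_option Elab.async false

namespace Cfsg.Lib.HSModel.UThreeFive

open Cfsg.Lib.PermCert Cfsg.Lib.Leech Cfsg.Lib.Leech.Stab
open Cfsg.Lib.Known.UThreeFive

/-- The atoms of a generator. -/
def atoms (l : ℕ) : List Atom := (genIdx.getD l []).flatMap fun i => gensHS.getD i []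

/-- A key of the fifty. -/
def skey (i : ℕ) : ℕ := subKeys.getD i 0

theorem keys_ok : ((List.range 50).all fun i => inL (dec (skey i)) && decide (Cfsg.sqNorm (dec (skey i)) = 32) &&
    Nat.blt (skey i) (2 ^ 120) && (List.range i).all fun j => skey i != skey j) = true := by decide +kernel

theorem atoms_fix : ((List.range 2).all fun l => (atoms l).all (·.ok) &&
    (Leech.Stab.evalW (atoms l) kD == kD) && (Leech.Stab.evalW (atoms l) kQ == kQ) &&
    (Leech.Stab.evalW (atoms l) treeHS352Root == treeHS352Root)) = true := by decide +kernel

theorem atoms_act : ((List.range 2).all fun l => (List.range 50).all fun i =>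
    Leech.Stab.evalW (atoms l) (skey i) == skey (ap (qTabs.getD l (0, 0)).1 i)) = true := by decide +kernel

/-- The number of a set. -/
def lab (i : ℕ) : ℕ := ap labBig i

theorem tabs_valid : qTabs.all (valid 50) = true ∧ tTabs.all (valid 50) = true ∧
    qTabs.getD 2 (0, 0) = pinv (qTabs.getD 0 (0, 0)) ∧ qTabs.getD 3 (0, 0) = pinv (qTabs.getD 1 (0, 0)) ∧
    qTabs.length = 4 ∧ tTabs.length = 6 := by decide +kernel

theorem lab_ok : ((List.range 50).all fun i => decide (lab i < 50) &&
    ((List.range i).all fun j => lab i != lab j) &&
    (List.range 6).all fun g => (Cert.setImg.getD g []).getD (lab i) 0 == lab (ap (tTabs.getD g (0, 0)).1 i)) = true := by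
  decide +kernel

/-- A word acts as a table. -/
def wordIs (tabs : List PP) (w : List ℕ) (t : PP) : Bool :=
  (w.all fun l => decide (l < tabs.length)) &&
    (List.range 50).all fun x => evalWord (w.map fun l => tabs.getD l (0, 0)) x == ap t.1 x

theorem words_ok : ((List.range 2).all fun l => wordIs tTabs (qWords.getD l []) (qTabs.getD l (0, 0))) = true ∧
    ((List.range 6).all fun g => wordIs qTabs (tWords.getD g []) (tTabs.getD g (0, 0))) = true ∧
    ((List.range 50).any fun x => ap (tTabs.getD 0 (0, 0)).1 x != x) = true := by decide +kernel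

/-- One set has a point outside another. -/
def setSep (j k : ℕ) : Bool :=
  (List.range 651).any fun i => (Cert.sets.getD j 0).testBit i && !(Cert.sets.getD k 0).testBit i

theorem sets_sep : ((List.range 50).all fun j => (List.range j).all fun k => setSep j k) = true := by decide +kernel

/-- The places of the keys increase. -/
theorem keys_incr : ((List.range 650).all fun i =>
    Nat.blt (625 * Cert.coord i 0 + 25 * Cert.coord i 1 + Cert.coord i 2)
      (625 * Cert.coord (i + 1) 0 + 25 * Cert.coord (i + 1) 1 + Cert.coord (i + 1) 2)) = true := by decide +kernel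

end Cfsg.Lib.HSModel.UThreeFive
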